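import Mathlib.GroupTheory.Sylow
import Mathlib.GroupTheory.PGroup

/-!
# Kernels preserving Sylow numbers
-/

set_option autoImplicit false
set_option linter.style.haveILetI false

namespace CfsgLib.SylowEighteen

open MulAction

variable {G X : Type*} [Group G] [Finite G] [Group X] {f : G →* X}

theorem card_sylow_dvd_of_surjective (hf : Function.Surjective f) (p : ℕ) [Fact p.Prime] :
    Nat.card (Sylow p X) ∣ Nat.card (Sylow p G) := by
  haveI : Finite X := Finite.of_surjective f hf
  obtain ⟨P⟩ : Nonempty (Sylow p G) := inferInstance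
  rw [Sylow.card_eq_index_normalizer P, Sylow.card_eq_index_normalizer (P.mapSurjective hf),
    ← Subgroup.index_comap_of_surjective _ hf]
  refine Subgroup.index_dvd_of_le fun g hg => ?_
  rw [Subgroup.mem_comap]
  exact Subgroup.le_normalizer_map f ⟨g, hg, rfl⟩

theorem ker_le_normalizer_of_card_eq (hf : Function.Surjective f) (p : ℕ) [Fact p.Prime]
    (hcard : Nat.card (Sylow p G) = Nat.card (Sylow p X)) (P : Sylow p G) :
    f.ker ≤ Subgroup.normalizer ((P : Subgroup G) : Set G) := by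
  haveI : Finite X := Finite.of_surjective f hf
  haveI := Fintype.ofFinite (Sylow p G)
  haveI := Fintype.ofFinite (Sylow p X)
  have hb : Function.Bijective (fun Q : Sylow p G => Q.mapSurjective hf) := by
    rw [Fintype.bijective_iff_surjective_and_card]
    exact ⟨Sylow.mapSurjective_surjective hf p, by
      rwa [← Nat.card_eq_fintype_card, ← Nat.card_eq_fintype_card]⟩
  intro k hk
  refine Sylow.smul_eq_iff_mem_normalizer.1 (hb.1 (Sylow.ext ?_))
  show ((k • P : Sylow p G) : Subgroup G).map f = (P : Subgroup G).map f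
  ext x
  constructor
  · rintro ⟨y, hy, rfl⟩
    rw [Sylow.coe_subgroup_smul] at hy
    obtain ⟨z, hz, rfl⟩ := Set.mem_smul_set.1 hy
    refine ⟨z, hz, ?_⟩
    show f z = f (k * z * k⁻¹)
    rw [map_mul, map_mul, map_inv, MonoidHom.mem_ker.1 hk]
    simp
  · rintro ⟨z, hz, rfl⟩
    refine ⟨k * z * k⁻¹, ?_, ?_⟩
    · rw [Sylow.coe_subgroup_smul]
      exact Set.mem_smul_set.2 ⟨z, hz, rfl⟩
    · rw [map_mul, map_mul, map_inv, MonoidHom.mem_ker.1 hk]
      simp

omit [Finite G] in
/-- A `p`-group normalising a finite subgroup fixes a set congruent in size modulo `p`. -/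
theorem card_inf_centralizer_modEq [Finite G] {p : ℕ} [Fact p.Prime] {R V : Subgroup G}
    (hR : IsPGroup p R) (hle : R ≤ Subgroup.normalizer (V : Set G)) :
    Nat.card V ≡ Nat.card (V ⊓ Subgroup.centralizer (R : Set G) : Subgroup G) [MOD p] := by
  letI : MulAction R V :=
    { smul := fun r v => ⟨(r : G) * v * (r : G)⁻¹, (Subgroup.mem_normalizer_iff.1 (hle r.2) v).1 v.2⟩
      one_smul := fun v => Subtype.ext (by
        show ((1 : R) : G) * v * ((1 : R) : G)⁻¹ = v
        simp)
      mul_smul := fun r r' v => Subtype.ext (by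
        show ((r * r' : R) : G) * v * ((r * r' : R) : G)⁻¹ =
          (r : G) * ((r' : G) * v * (r' : G)⁻¹) * (r : G)⁻¹
        simp [mul_assoc]) }
  have e : fixedPoints R V ≃ (V ⊓ Subgroup.centralizer (R : Set G) : Subgroup G) :=
    { toFun := fun v => ⟨v.1.1, v.1.2, fun r hr => by
        have h : r * (v.1.1 : G) * r⁻¹ = v.1.1 := congrArg Subtype.val (v.2 ⟨r, hr⟩)
        exact mul_inv_eq_iff_eq_mul.1 h⟩
      invFun := fun v => ⟨⟨v.1, v.2.1⟩, fun r => Subtype.ext (by
        show (r : G) * v.1 * (r : G)⁻¹ = v.1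
        exact mul_inv_eq_iff_eq_mul.2 (v.2.2 r r.2))⟩
      left_inv := fun v => rfl
      right_inv := fun v => rfl }
  rw [← Nat.card_congr e]
  exact hR.card_modEq_card_fixedPoints V

omit [Finite G] in
theorem mem_of_isPGroup_of_normalizes {s : ℕ} [Fact s.Prime] (S : Sylow s G) {x : G}
    (hx : x ∈ Subgroup.normalizer ((S : Subgroup G) : Set G))
    (hxp : ∃ k, orderOf x = s ^ k) : x ∈ (S : Subgroup G) := by
  obtain ⟨k, hk⟩ := hxp
  have hp : IsPGroup s (Subgroup.zpowers x) :=
    IsPGroup.of_card (n := k) (by rw [Nat.card_zpowers, hk])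
  have h := hp.inf_normalizer_sylow S
  have hm : x ∈ Subgroup.zpowers x ⊓ Subgroup.normalizer ((S : Subgroup G) : Set G) :=
    ⟨Subgroup.mem_zpowers x, hx⟩
  exact (h.le hm).2

/-- If a normal subgroup normalises a Sylow `s`-subgroup, the `s`-part of its number of Sylow
`p`-subgroups is `1` modulo `p`. -/
theorem pow_modEq_one_of_normalizes {s p : ℕ} [Fact s.Prime] [Fact p.Prime] (hsp : s ≠ p)
    (K : Subgroup G) [K.Normal] (S : Sylow s G)
    (hK : K ≤ Subgroup.normalizer ((S : Subgroup G) : Set G)) (R : Sylow p G)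
    (hR : (R : Subgroup G) ≤ K) (k m : ℕ) (hn : Nat.card (Sylow p G) = s ^ k * m)
    (hm : ¬ s ∣ m) : s ^ k ≡ 1 [MOD p] := by
  set R' : Sylow p K := R.subtype hR with hR'
  have hcard : Nat.card (Sylow p K) = Nat.card (Sylow p G) := by
    refine (Nat.card_eq_of_bijective
      (fun P : Sylow p G => P.subtype (?_ : (P : Subgroup G) ≤ K)) ⟨?_, ?_⟩).symm
    · obtain ⟨g, rfl⟩ := exists_smul_eq G R P
      intro x hx
      rw [Sylow.coe_subgroup_smul] at hx
      obtain ⟨r, hr, rfl⟩ := Set.mem_smul_set.1 hx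
      exact Subgroup.Normal.conj_mem inferInstance r (hR hr) g
    · exact fun P Q e => Sylow.subtype_injective e
    · intro Q
      obtain ⟨P, hP⟩ := (Q.isPGroup'.map K.subtype).exists_le_sylow
      obtain ⟨g, rfl⟩ := exists_smul_eq G R P
      refine ⟨g • R, Sylow.ext (Q.3 (Sylow.isPGroup' _) fun x hx => hP ⟨x, hx, rfl⟩)⟩
  set V : Subgroup K := (S : Subgroup G).subgroupOf K with hV
  haveI : V.Normal := by
    refine ⟨fun v hv g => ?_⟩
    exact (Subgroup.mem_normalizer_iff.1 (hK g.2) v).1 hv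
  have hVp : IsPGroup s V := S.isPGroup'.comap_subtype
  have hVi : ¬ s ∣ V.index := by
    intro hs
    obtain ⟨W⟩ : Nonempty (Sylow s K) := inferInstance
    obtain ⟨W, hW⟩ := hVp.exists_le_sylow
    have hWV : (W : Subgroup K) = V := by
      refine le_antisymm (fun x hx => ?_) hW
      obtain ⟨j, hj⟩ := IsPGroup.iff_orderOf.1 W.isPGroup' ⟨x, hx⟩
      rw [← Subgroup.orderOf_coe] at hj
      exact mem_of_isPGroup_of_normalizes S (hK x.2) ⟨j, (Subgroup.orderOf_coe x).trans hj⟩
    exact W.not_dvd_index (hWV ▸ hs)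
  set N : Subgroup K := Subgroup.normalizer ((R' : Subgroup K) : Set K) with hN
  have hNi : N.index = s ^ k * m := by
    rw [← hn, ← hcard]
    exact (Sylow.card_eq_index_normalizer R').symm
  -- compare the two factorisations of the index of `V ⊓ N`
  set e := (V ⊓ N).relIndex V with he
  have h1 : (V ⊓ N).relIndex N * (s ^ k * m) = e * V.index := by
    rw [← hNi, he, Subgroup.relIndex_mul_index inf_le_right,
      Subgroup.relIndex_mul_index inf_le_left]
  have h2 : ¬ s ∣ (V ⊓ N).relIndex N := by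
    rw [Subgroup.inf_relIndex_right]
    exact fun hs => hVi (hs.trans (Subgroup.relIndex_dvd_index_of_normal V N))
  have h3 : Nat.card (V ⊓ N : Subgroup K) * e = Nat.card V := by
    rw [he, ← Subgroup.relIndex_bot_left, ← Subgroup.relIndex_bot_left]
    exact Subgroup.relIndex_mul_relIndex _ _ _ bot_le inf_le_left
  have hes : e = s ^ k := by
    obtain ⟨c, hc⟩ := IsPGroup.iff_card.1 hVp
    obtain ⟨i, -, hi⟩ := (Nat.dvd_prime_pow Fact.out).1 (hc ▸ Dvd.intro_left _ h3)
    rw [hi] at h1 ⊢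
    have hsp' : s.Prime := Fact.out
    have hk1 : s ^ k ∣ s ^ i := by
      refine Nat.Coprime.dvd_of_dvd_mul_right (n := V.index) ?_
        (h1 ▸ Dvd.dvd.mul_left (Dvd.intro _ rfl) _)
      exact Nat.Coprime.pow_left k ((hsp'.coprime_iff_not_dvd).2 hVi)
    have hk2 : s ^ i ∣ s ^ k := by
      refine Nat.Coprime.dvd_of_dvd_mul_left (n := s ^ k) (m := (V ⊓ N).relIndex N * m) ?_
        (by rw [mul_comm, mul_left_comm, h1]; exact Dvd.intro _ rfl)
      refine Nat.Coprime.pow_left i ((hsp'.coprime_iff_not_dvd).2 fun hs => ?_)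
      rcases hsp'.dvd_mul.1 hs with hs | hs
      · exact h2 hs
      · exact hm hs
    rw [Nat.dvd_antisymm hk2 hk1]
  -- the fixed points
  have h4 : (V ⊓ N : Subgroup K) = V ⊓ Subgroup.centralizer ((R' : Subgroup K) : Set K) := by
    refine le_antisymm (fun x hx => ⟨hx.1, fun r hr => ?_⟩)
      (inf_le_inf le_rfl (Subgroup.centralizer_le_normalizer _))
    have hc : r * x * r⁻¹ * x⁻¹ ∈ V ⊓ (R' : Subgroup K) := by
      refine ⟨V.mul_mem (Subgroup.Normal.conj_mem inferInstance x hx.1 r) (V.inv_mem hx.1), ?_⟩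
      rw [mul_assoc, mul_assoc]
      refine mul_mem hr ?_
      rw [← mul_assoc]
      exact (Subgroup.mem_normalizer_iff.1 hx.2 r⁻¹).1 (inv_mem hr)
    have hd := IsPGroup.disjoint_of_ne s p hsp _ _ hVp R'.isPGroup'
    rw [hd.eq_bot, Subgroup.mem_bot, mul_inv_eq_one, mul_inv_eq_iff_eq_mul] at hc
    exact hc
  have h5 := card_inf_centralizer_modEq R'.isPGroup' (V := V)
    (by rw [Subgroup.normalizer_eq_top]; exact le_top)
  rw [← h4, ← h3, hes] at h5
  have h6 : Nat.Coprime p (Nat.card (V ⊓ N : Subgroup K)) := by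
    obtain ⟨c, hc⟩ := IsPGroup.iff_card.1 (hVp.to_le (inf_le_left : V ⊓ N ≤ V))
    rw [hc]
    exact Nat.Coprime.pow_right c ((Nat.coprime_primes Fact.out Fact.out).2 hsp.symm)
  exact Nat.ModEq.cancel_left_of_coprime h6 (by rw [mul_one]; exact h5)

/-- A normal subgroup normalising every Sylow subgroup for the primes in a set containing its own
prime divisors is trivial when the centre is. -/
theorem eq_bot_of_normalizes (hZ : Subgroup.center G = ⊥) (K : Subgroup G) [K.Normal]
    (hnorm : ∀ (t : ℕ) (_ : Fact t.Prime) (T : Sylow t G), t ∣ Nat.card G →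
      K ≤ Subgroup.normalizer ((T : Subgroup G) : Set G)) : K = ⊥ := by
  by_contra hK
  haveI : Nontrivial K := (Subgroup.nontrivial_iff_ne_bot K).2 hK
  obtain ⟨s, hs, hsd⟩ := Nat.exists_prime_and_dvd
    (show Nat.card K ≠ 1 from (Finite.one_lt_card (α := K)).ne')
  haveI hsf : Fact s.Prime := ⟨hs⟩
  obtain ⟨⟨x, hxK⟩, hx⟩ := exists_prime_orderOf_dvd_card' s hsd
  rw [← Subgroup.orderOf_coe] at hx
  have hsG : s ∣ Nat.card G := hsd.trans (Subgroup.card_subgroup_dvd_card K)
  obtain ⟨S⟩ : Nonempty (Sylow s G) := inferInstance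
  have hxS : x ∈ (S : Subgroup G) :=
    mem_of_isPGroup_of_normalizes S (hnorm s hsf S hsG hxK) ⟨1, by rw [pow_one]; exact hx⟩
  set V : Subgroup G := (S : Subgroup G) ⊓ K with hV
  have hVS : IsPGroup s V := S.isPGroup'.to_le inf_le_left
  have hle : (S : Subgroup G) ≤ Subgroup.normalizer (V : Set G) := by
    intro g hg
    rw [Subgroup.mem_normalizer_iff]
    intro v
    constructor
    · exact fun hv => ⟨(S : Subgroup G).mul_mem ((S : Subgroup G).mul_mem hg hv.1)
          ((S : Subgroup G).inv_mem hg),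
        Subgroup.Normal.conj_mem inferInstance v hv.2 g⟩
    · intro hv
      have h1 : g⁻¹ * (g * v * g⁻¹) * g⁻¹⁻¹ = v := by simp [mul_assoc]
      rw [← h1]
      exact ⟨(S : Subgroup G).mul_mem ((S : Subgroup G).mul_mem ((S : Subgroup G).inv_mem hg) hv.1)
          ((S : Subgroup G).inv_mem ((S : Subgroup G).inv_mem hg)),
        Subgroup.Normal.conj_mem inferInstance _ hv.2 g⁻¹⟩
  have hmod := card_inf_centralizer_modEq S.isPGroup' hle
  obtain ⟨c, hc⟩ := IsPGroup.iff_card.1 hVS
  have hsV : s ∣ Nat.card V := by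
    have := Subgroup.orderOf_dvd_natCard V ⟨hxS, hxK⟩
    rwa [hx] at this
  set W : Subgroup G := V ⊓ Subgroup.centralizer ((S : Subgroup G) : Set G) with hW
  have hsW : s ∣ Nat.card W :=
    Nat.modEq_zero_iff_dvd.1 (hmod.symm.trans (Nat.modEq_zero_iff_dvd.2 hsV))
  obtain ⟨⟨y, hyW⟩, hy⟩ := exists_prime_orderOf_dvd_card' s hsW
  rw [← Subgroup.orderOf_coe] at hy
  replace hy : orderOf y = s := hy
  -- `y` is central
  have hidx : (Subgroup.centralizer {y}).index = 1 := by
    by_contra hne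
    obtain ⟨t, ht, htd⟩ := Nat.exists_prime_and_dvd hne
    haveI htf : Fact t.Prime := ⟨ht⟩
    have htG : t ∣ Nat.card G := htd.trans (Subgroup.index_dvd_card _)
    obtain ⟨T, hT⟩ : ∃ T : Sylow t G, (T : Subgroup G) ≤ Subgroup.centralizer {y} := by
      by_cases hts : t = s
      · subst hts
        exact ⟨S, fun g hg => Subgroup.mem_centralizer_singleton_iff.2 (hyW.2 g hg)⟩
      · obtain ⟨T⟩ : Nonempty (Sylow t G) := inferInstance
        refine ⟨T, fun g hg => Subgroup.mem_centralizer_singleton_iff.2 ?_⟩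
        have hyT := hnorm t htf T htG hyW.1.2
        have h1 : g * y * g⁻¹ * y⁻¹ ∈ (T : Subgroup G) := by
          rw [mul_assoc, mul_assoc]
          refine mul_mem hg ?_
          rw [← mul_assoc]
          exact (Subgroup.mem_normalizer_iff.1 hyT g⁻¹).1 (inv_mem hg)
        have h2 : g * y * g⁻¹ * y⁻¹ ∈ (S : Subgroup G) := by
          refine (S : Subgroup G).mul_mem ?_ ((S : Subgroup G).inv_mem hyW.1.1)
          have hK' : g * y * g⁻¹ ∈ K := Subgroup.Normal.conj_mem inferInstance y hyW.1.2 g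
          refine mem_of_isPGroup_of_normalizes S (hnorm s hsf S hsG hK') ⟨1, ?_⟩
          rw [pow_one]
          exact ((MulAut.conj g).orderOf_eq y).trans hy
        have hd := IsPGroup.disjoint_of_ne t s hts _ _ T.isPGroup' S.isPGroup'
        have h3 : g * y * g⁻¹ * y⁻¹ ∈ (T : Subgroup G) ⊓ (S : Subgroup G) := ⟨h1, h2⟩
        rw [hd.eq_bot, Subgroup.mem_bot, mul_inv_eq_one, mul_inv_eq_iff_eq_mul] at h3
        exact h3
    exact T.not_dvd_index (htd.trans (Subgroup.index_dvd_of_le hT))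
  have hy1 : y ∈ Subgroup.center G := by
    rw [Subgroup.mem_center_iff]
    intro g
    have : g ∈ Subgroup.centralizer {y} := by rw [Subgroup.index_eq_one.1 hidx]; trivial
    exact Subgroup.mem_centralizer_singleton_iff.1 this
  rw [hZ, Subgroup.mem_bot] at hy1
  rw [hy1, orderOf_one] at hy
  exact hs.ne_one hy.symm

end CfsgLib.SylowEighteen
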