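import Cfsg.Agent.SylowEighteen.Main
import Cfsg.Agent.Classification.PSLTwoSmall.Iso

/-!
# Identification with `PSL(2, 17)` and `PGL(2, 17)`
-/

set_option autoImplicit false
set_option linter.style.haveILetI false

namespace CfsgLib.SylowEighteen

open MulAction CfsgLib.Classification.PSLTwoSmall CfsgLib.Classification.SmallOrders CfsgLib.Small
open scoped OnePoint MatrixGroups

local instance fact_seventeen'' : Fact (Nat.Prime 17) := ⟨by norm_num⟩

theorem not_comm_of_card {G : Type*} [Group G] [Finite G] [IsSimpleGroup G]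
    (hc : Nat.card G = 2448) : ¬ IsMulCommutative G := fun h => by
  have := prime_card_of_comm h
  rw [hc] at this
  norm_num at this

theorem nonempty_model_2448 {G : Type*} [Group G] [Finite G] [IsSimpleGroup G]
    (hc : Nat.card G = 2448) : Nonempty (Model G 17) := by
  classical
  have hm : Nat.card G = 17 ^ 1 * 144 := by rw [hc]; norm_num
  have hG := not_comm_of_card hc
  obtain ⟨P⟩ : Nonempty (Sylow 17 G) := inferInstance
  have hP : Nat.card (P : Subgroup G) = 17 := by
    rw [card_sylow_eq hm (by norm_num) P, pow_one]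
  refine nonempty_model hG (by norm_num) (by rw [hc]; norm_num) P hP ?_
  have h := card_sylow_mem hG hm one_ne_zero (by norm_num : ¬ 17 ∣ 144)
  revert h
  generalize Nat.card (Sylow 17 G) = n
  intro h
  have hall : ∀ d ∈ (Nat.divisors 144).filter (fun d => d % 17 = 1 ∧ d ≠ 1), d = 18 := by decide
  exact hall n h

/-- The group of order 2448 is `PSL(2, 17)`. -/
theorem nonempty_psl {G : Type*} [Group G] [Finite G] [IsSimpleGroup G]
    (hc : Nat.card G = 2448) {F : Type*} [Field F] [Fintype F] (hF : Fintype.card F = 17) :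
    Nonempty (G ≃* Matrix.ProjectiveSpecialLinearGroup (Fin 2) F) :=
  nonempty_equiv (p := 17) (not_comm_of_card hc) (by norm_num) (by rw [hc]; norm_num)
    (m := 144) (by rw [hc]; norm_num) (by norm_num) (by decide)
    check_seventeen.1 check_seventeen.2 hF

/-- The Moebius action of `GL(2, 17)`. -/
noncomputable def gmob : GL (Fin 2) (ZMod 17) →* Equiv.Perm (OnePoint (ZMod 17)) :=
  MulAction.toPermHom (GL (Fin 2) (ZMod 17)) (OnePoint (ZMod 17))

theorem mob_range_le : (mob 17).range ≤ gmob.range := by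
  rintro _ ⟨A, rfl⟩
  exact ⟨Matrix.SpecialLinearGroup.toGL A, rfl⟩

theorem affine_mem_range {σ : Equiv.Perm (OnePoint (ZMod 17))} {j b : ZMod 17} (hj : j ≠ 0)
    (hinf : σ ∞ = ∞)
    (hx : ∀ x : ZMod 17, σ x = ((j * x + b : ZMod 17) : OnePoint (ZMod 17))) :
    σ ∈ gmob.range := by
  set A : GL (Fin 2) (ZMod 17) :=
    Matrix.GeneralLinearGroup.mkOfDetNeZero !![j, b; 0, 1] (by simp [hj]) with hA
  refine ⟨A, Equiv.ext fun o => ?_⟩
  cases o with
  | infty =>
    rw [hinf]
    show A • (∞ : OnePoint (ZMod 17)) = ∞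
    rw [OnePoint.smul_infty_eq_ite]
    simp [hA, Matrix.GeneralLinearGroup.mkOfDetNeZero]
  | coe x =>
    rw [hx]
    show A • (x : OnePoint (ZMod 17)) = _
    rw [OnePoint.smul_some_eq_ite]
    simp [hA, Matrix.GeneralLinearGroup.mkOfDetNeZero]

theorem center_le_ker_gmob : Subgroup.center (GL (Fin 2) (ZMod 17)) ≤ gmob.ker := by
  intro A hA
  rw [Matrix.GeneralLinearGroup.center_eq_range_scalar] at hA
  obtain ⟨c, rfl⟩ := hA
  refine Equiv.ext fun o => ?_
  cases o with
  | infty =>
    show Matrix.GeneralLinearGroup.scalar (Fin 2) c • (∞ : OnePoint (ZMod 17)) = ∞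
    rw [OnePoint.smul_infty_eq_ite]
    simp
  | coe x =>
    show Matrix.GeneralLinearGroup.scalar (Fin 2) c • (x : OnePoint (ZMod 17)) = x
    rw [OnePoint.smul_some_eq_ite]
    simp

variable {G Ω : Type*} [Group G] [MulAction G Ω] [FaithfulSMul G Ω] [Finite G] [Fintype Ω]
  [DecidableEq Ω]

/-- The group of order 4896 is `PGL(2, 17)`. -/
theorem nonempty_pgl (h : Setup G Ω) (hn : Nat.card (Sylow 3 G) ∣ 136)
    (hc : Nat.card G = 4896) {F : Type*} [Field F] [Fintype F] (hF : Fintype.card F = 17) :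
    Nonempty (G ≃* (GL (Fin 2) F ⧸ Subgroup.center (GL (Fin 2) F))) := by
  classical
  obtain ⟨h3, hcard, -⟩ := main h hn
  set H := evenSubgroup G Ω with hH
  have h' : Setup H Ω :=
    h.of_subgroup _ fun x hx => mem_evenSubgroup_of_odd (by rw [hx]; decide)
  have h3' : Nat.card (Sylow 3 H) = 136 := by
    haveI : Fact (Nat.Prime 3) := ⟨Nat.prime_three⟩
    rw [← h3]
    refine card_sylow_of_forall_le _ fun P x hx => mem_evenSubgroup_of_odd ?_
    obtain ⟨k, hk⟩ := IsPGroup.iff_orderOf.1 P.isPGroup' ⟨x, hx⟩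
    rw [← Subgroup.orderOf_coe] at hk
    rw [show orderOf x = 3 ^ k from hk]
    exact Odd.pow (by decide)
  haveI : IsSimpleGroup H := isSimpleGroup h' hcard h3'
  obtain ⟨M⟩ := nonempty_model_2448 (G := H) hcard
  obtain ⟨u, hui, hux⟩ := M.exists_translate
  have hupow : ∀ n : ℕ, M.hom (u ^ n) ∞ = ∞ ∧
      ∀ x : ZMod 17, M.hom (u ^ n) x = ((x + n : ZMod 17) : OnePoint (ZMod 17)) := by
    intro n
    induction n with
    | zero => exact ⟨by simp, fun x => by simp⟩
    | succ n ih =>
      refine ⟨?_, fun x => ?_⟩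
      · rw [pow_succ', map_mul, Equiv.Perm.mul_apply, ih.1, hui]
      · rw [pow_succ', map_mul, Equiv.Perm.mul_apply, ih.2 x, hux, Nat.cast_succ, add_assoc]
  have hu17 : orderOf u = 17 := by
    refine orderOf_eq_prime (M.hom_injective (Equiv.ext fun o => ?_)) fun e => ?_
    · cases o with
      | infty => rw [(hupow 17).1, map_one]; rfl
      | coe x =>
        rw [(hupow 17).2 x, map_one, show ((17 : ℕ) : ZMod 17) = 0 from ZMod.natCast_self 17,
          add_zero]
        rfl
    · have := hux 0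
      rw [e, map_one, Equiv.Perm.one_apply] at this
      exact absurd (OnePoint.coe_injective this) (by decide)
  obtain ⟨a, v, hv, huv⟩ := mem_rot_of_orderOf h (y := (u : G)) (by
    rw [Subgroup.orderOf_coe]; exact hu17)
  have hu1 : (u : G) ≠ 1 := by
    intro e
    rw [show u = 1 from Subtype.ext e] at hu17
    simp at hu17
  have hnorm : ∀ g : G, g • a = a → ∃ j : ℕ, g * (u : G) * g⁻¹ = (u : G) ^ j := by
    intro g hg
    have hvu := hv.mem_zpowers huv hu1
    obtain ⟨k, hk⟩ := huv
    have h1 : g * (u : G) * g⁻¹ ∈ Subgroup.zpowers (u : G) := by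
      rw [← hk]
      show g * v ^ k * g⁻¹ ∈ _
      rw [← conj_zpow]
      refine Subgroup.zpow_mem _ ?_ _
      obtain ⟨l, hl⟩ := hv.2.2.2 g hg
      rw [← hl]
      exact Subgroup.zpow_mem _ (by rw [hk]; exact hvu) _
    obtain ⟨j, hj⟩ := mem_powers_iff_mem_zpowers.2 h1
    exact ⟨j, hj.symm⟩
  -- fixing `a` means fixing `∞`
  have hfixinf : ∀ k : H, k • a = a → M.hom k ∞ = ∞ := by
    intro k hk
    obtain ⟨j, hj⟩ := hnorm (k : G)⁻¹ (inv_smul_eq_iff.2 hk.symm)
    have h1 : k⁻¹ * u * k = u ^ j := Subtype.ext (by simpa using hj)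
    have h2 : M.hom u (M.hom k ∞) = M.hom k ∞ := by
      rw [← Equiv.Perm.mul_apply, ← map_mul, show u * k = k * u ^ j by rw [← h1]; group,
        map_mul, Equiv.Perm.mul_apply, (hupow j).1]
    revert h2
    generalize M.hom k ∞ = o
    intro h2
    cases o with
    | infty => rfl
    | coe x =>
      rw [hux] at h2
      exact absurd (OnePoint.coe_injective h2) (by simp)
  choose tr htr using fun c => h'.exists_smul a c
  let ψ : Ω → OnePoint (ZMod 17) := fun c => M.hom (tr c) ∞
  have hψ : ∀ (k : H) (c : Ω), k • a = c → ψ c = M.hom k ∞ := by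
    intro k c hkc
    show M.hom (tr c) ∞ = _
    have := hfixinf (k⁻¹ * tr c) (by rw [mul_smul, htr, ← hkc, inv_smul_smul])
    rw [map_mul, Equiv.Perm.mul_apply, map_inv] at this
    rw [Equiv.Perm.inv_eq_iff_eq] at this
    exact this
  have hequiv : ∀ (k : H) (c : Ω), ψ (k • c) = M.hom k (ψ c) := by
    intro k c
    rw [hψ (k * tr c) (k • c) (by rw [mul_smul, htr]), map_mul, Equiv.Perm.mul_apply]
  have hψa : ψ a = ∞ := by rw [hψ 1 a (one_smul _ a), map_one]; rfl
  have hsurj : Function.Surjective ψ := by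
    intro o
    cases o with
    | infty => exact ⟨a, hψa⟩
    | coe x =>
      obtain ⟨w, hw, -⟩ := M.exists_swap
      refine ⟨(u ^ x.val * w) • a, ?_⟩
      rw [hψ (u ^ x.val * w) _ rfl, map_mul, Equiv.Perm.mul_apply, hw, (hupow _).2, zero_add,
        ZMod.natCast_rightInverse x]
  haveI : Finite (OnePoint (ZMod 17)) := inferInstanceAs (Finite (Option (ZMod 17)))
  have hbij : Function.Bijective ψ := (Nat.bijective_iff_surjective_and_card _).2 ⟨hsurj, by
    rw [h.card_points, show Nat.card (OnePoint (ZMod 17)) = Nat.card (Option (ZMod 17)) from rfl,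
      Finite.card_option, Nat.card_zmod]⟩
  let e := Equiv.ofBijective ψ hbij
  let ρ : G →* Equiv.Perm (OnePoint (ZMod 17)) :=
    (Equiv.permCongrHom e).toMonoidHom.comp (MulAction.toPermHom G Ω)
  have hρ : ∀ (g : G) (c : Ω), ρ g (e c) = e (g • c) := by
    intro g c
    show e (g • e.symm (e c)) = _
    rw [Equiv.symm_apply_apply]
  have hρinj : Function.Injective ρ :=
    (Equiv.permCongrHom e).injective.comp MulAction.toPerm_injective
  have hρH : ∀ k : H, ρ (k : G) = M.hom k := by
    intro k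
    refine Equiv.ext fun o => ?_
    obtain ⟨c, rfl⟩ := e.surjective o
    rw [hρ]
    exact hequiv k c
  have hHrange : ∀ k : H, ρ (k : G) ∈ gmob.range := fun k => by
    rw [hρH]
    exact mob_range_le (M.range_le (by norm_num) check_seventeen.1 check_seventeen.2 ⟨k, rfl⟩)
  have hea : e a = ∞ := hψa
  have hstab : ∀ g : G, g • a = a → ρ g ∈ gmob.range := by
    intro g hg
    have hinf : ρ g ∞ = ∞ := by rw [← hea, hρ, hg]
    obtain ⟨j, hj⟩ := hnorm g hg
    obtain ⟨b, hb⟩ : ∃ b : ZMod 17, ρ g ((0 : ZMod 17) : OnePoint (ZMod 17)) =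
        (b : OnePoint (ZMod 17)) := by
      cases h0 : ρ g ((0 : ZMod 17) : OnePoint (ZMod 17)) with
      | infty => exact absurd ((ρ g).injective (h0.trans hinf.symm)) (OnePoint.coe_ne_infty 0)
      | coe b => exact ⟨b, rfl⟩
    have hx : ∀ x : ZMod 17, ρ g x = (((j : ZMod 17) * x + b : ZMod 17) : OnePoint (ZMod 17)) := by
      intro x
      have h1 : (x : OnePoint (ZMod 17)) =
          ρ ((u : G) ^ x.val) ((0 : ZMod 17) : OnePoint (ZMod 17)) := by
        rw [← SubmonoidClass.coe_pow, hρH, (hupow _).2, zero_add, ZMod.natCast_rightInverse x]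
      rw [h1, ← Equiv.Perm.mul_apply, ← map_mul,
        show g * (u : G) ^ x.val = (g * (u : G) * g⁻¹) ^ x.val * g by rw [conj_pow]; group,
        hj, ← pow_mul, map_mul, Equiv.Perm.mul_apply, hb, ← SubmonoidClass.coe_pow, hρH,
        (hupow _).2, Nat.cast_mul, ZMod.natCast_rightInverse x, add_comm]
    refine affine_mem_range ?_ hinf hx
    intro e0
    have := (ρ g).injective ((hx 1).trans (by rw [e0, zero_mul, zero_add, ← hb]))
    exact absurd (OnePoint.coe_injective this) (by decide)
  have hle : ρ.range ≤ gmob.range := by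
    rintro _ ⟨g, rfl⟩
    obtain ⟨k, hk⟩ := h'.exists_smul (g • a) a
    have h1 := hstab ((k : G) * g) (by rw [mul_smul]; exact hk)
    rw [map_mul] at h1
    exact (gmob.range.mul_mem_cancel_left (hHrange k)).1 h1
  let φ : GL (Fin 2) (ZMod 17) ⧸ Subgroup.center (GL (Fin 2) (ZMod 17)) →*
      Equiv.Perm (OnePoint (ZMod 17)) := QuotientGroup.lift _ gmob center_le_ker_gmob
  have hle' : ρ.range ≤ φ.range := by
    intro σ hσ
    obtain ⟨A, rfl⟩ := hle hσ
    exact ⟨QuotientGroup.mk A, rfl⟩
  have hpgl : Nat.card (GL (Fin 2) (ZMod 17) ⧸ Subgroup.center (GL (Fin 2) (ZMod 17))) = 4896 := by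
    have h1 := CfsgLib.Linear.card_PGL (n := Fin 2) (F := ZMod 17)
    rw [CfsgLib.Linear.card_SL_two, ZMod.card] at h1
    exact h1
  have hρcard : Nat.card ρ.range = 4896 := by
    rw [← hc]
    exact (Nat.card_congr (MonoidHom.ofInjective hρinj).toEquiv).symm
  have h1 : Nat.card φ.range ≤ 4896 :=
    hpgl ▸ Nat.le_of_dvd Nat.card_pos (Subgroup.card_range_dvd φ)
  have heq : ρ.range = φ.range := Subgroup.eq_of_le_of_card_ge hle' (by omega)
  have hφ : Function.Injective φ := by
    have hb' : Function.Bijective φ.rangeRestrict := (Nat.bijective_iff_surjective_and_card _).2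
      ⟨φ.rangeRestrict_surjective, by rw [hpgl, ← heq, hρcard]⟩
    exact fun x y h => hb'.1 (Subtype.ext h)
  let glE : GL (Fin 2) (ZMod 17) ≃* GL (Fin 2) F :=
    CfsgLib.Linear.glMapEquiv (ZMod.ringEquivOfPrime F (by norm_num) (by rw [hF]))
  have hcen : (Subgroup.center (GL (Fin 2) (ZMod 17))).map glE.toMonoidHom =
      Subgroup.center (GL (Fin 2) F) := by
    ext x
    rw [Subgroup.mem_map]
    constructor
    · rintro ⟨y, hy, rfl⟩
      rw [Subgroup.mem_center_iff] at hy ⊢
      intro z
      obtain ⟨z, rfl⟩ := glE.surjective z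
      show glE z * glE y = glE y * glE z
      rw [← map_mul, ← map_mul, hy z]
    · intro hx
      refine ⟨glE.symm x, ?_, glE.apply_symm_apply x⟩
      rw [Subgroup.mem_center_iff] at hx ⊢
      intro z
      apply glE.injective
      rw [map_mul, map_mul, glE.apply_symm_apply, hx]
  exact ⟨((MonoidHom.ofInjective hρinj).trans (MulEquiv.subgroupCongr heq)).trans
    ((MonoidHom.ofInjective hφ).symm.trans (QuotientGroup.congr _ _ glE hcen))⟩

end CfsgLib.SylowEighteen
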