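import Cfsg.Agent.SylowEighteen.Setup
import Mathlib.Tactic.Group

/-!
# Counting elements in groups on 18 points
-/

set_option autoImplicit false
set_option linter.style.haveILetI false

namespace CfsgLib.SylowEighteen

local instance fact_seventeen' : Fact (Nat.Prime 17) := ⟨by norm_num⟩

open MulAction

variable {X Ω : Type*} [Group X] [MulAction X Ω]

/-- All elements act as even permutations. -/
def AllEven (X Ω : Type*) [Group X] [MulAction X Ω] [Fintype Ω] [DecidableEq Ω] : Prop :=
  ∀ x : X, Equiv.Perm.sign (toPermHom X Ω x) = 1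

theorem card_sylow_three_card (h : Setup X Ω) [FaithfulSMul X Ω] [Finite X] (S : Sylow 3 X) :
    Nat.card (S : Subgroup X) = 9 := by
  haveI : Fact (Nat.Prime 3) := ⟨by norm_num⟩
  haveI := h.finite
  obtain ⟨a⟩ : Nonempty Ω :=
    (Nat.card_pos_iff.1 (by rw [h.card_points]; norm_num : 0 < Nat.card Ω)).1
  obtain ⟨b, hb, -⟩ := h.exists_ne_pair a a
  have hd := card_twoStab_dvd h hb
  have hX := card_group h hb
  obtain ⟨k, hk⟩ := IsPGroup.iff_card.1 S.isPGroup'
  have hmul := Subgroup.card_mul_index (S : Subgroup X)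
  have hni : ¬ 3 ∣ (S : Subgroup X).index := S.not_dvd_index
  rw [hk] at hmul ⊢
  have h9 : 9 ∣ 3 ^ k := by
    refine Nat.Coprime.dvd_of_dvd_mul_right (n := (S : Subgroup X).index) ?_ ?_
    · exact Nat.Coprime.pow_left 2 ((Nat.prime_three.coprime_iff_not_dvd).2 hni)
    · rw [hmul, hX]
      exact Dvd.dvd.mul_right (by norm_num) _
  have h10 : 3 ^ k ∣ 9 := by
    refine Nat.Coprime.dvd_of_dvd_mul_right (n := 34 * 16) ?_ ?_
    · exact Nat.Coprime.pow_left k (by norm_num)
    · have h11 : 3 ^ k ∣ 306 * Nat.card (twoStab X a b) := hX ▸ hmul ▸ Dvd.intro _ rfl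
      exact h11.trans (by
        rw [show 9 * (34 * 16) = 306 * 16 by norm_num]
        exact Nat.mul_dvd_mul_left _ hd)
  exact Nat.dvd_antisymm h10 h9

theorem coprime_parts {m : ℕ} (hm : m ∣ 306 * 16) (h2 : ¬ 2 ∣ m) (h17 : ¬ 17 ∣ m) : m ∣ 9 := by
  refine Nat.Coprime.dvd_of_dvd_mul_right (n := 2 ^ 5 * 17) ?_ (by simpa using hm)
  refine Nat.Coprime.mul_right ?_ ?_
  · exact Nat.Coprime.pow_right 5 ((Nat.prime_two.coprime_iff_not_dvd.2 h2).symm)
  · exact (((by norm_num : Nat.Prime 17)).coprime_iff_not_dvd.2 h17).symm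

theorem dvd_bound (h : Setup X Ω) [FaithfulSMul X Ω] [Finite X] : Nat.card X ∣ 306 * 16 := by
  haveI := h.finite
  obtain ⟨a⟩ : Nonempty Ω :=
    (Nat.card_pos_iff.1 (by rw [h.card_points]; norm_num : 0 < Nat.card Ω)).1
  obtain ⟨b, hb, -⟩ := h.exists_ne_pair a a
  rw [card_group h hb]
  exact Nat.mul_dvd_mul_left _ (card_twoStab_dvd h hb)

theorem rot_subsingleton {u v y : X} {a b : Ω} (hu : IsRot u a) (hv : IsRot v b)
    (hyu : y ∈ Subgroup.zpowers u) (hyv : y ∈ Subgroup.zpowers v) (hy : y ≠ 1) : a = b :=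
  hv.2.2.1 a (smul_eq_of_mem_zpowers (hv.mem_zpowers hyv hy)
    (smul_eq_of_mem_zpowers hyu hu.2.1))

theorem orderOf_rot {u y : X} {a : Ω} (hu : IsRot u a) (hy : y ∈ Subgroup.zpowers u)
    (hy1 : y ≠ 1) : orderOf y = 17 := by
  rw [← hu.1]
  exact Nat.dvd_antisymm (orderOf_dvd_of_mem_zpowers hy)
    (orderOf_dvd_of_mem_zpowers (hu.mem_zpowers hy hy1))

theorem card_seventeen (h : Setup X Ω) [FaithfulSMul X Ω] [Fintype X] [DecidableEq X] :
    (Finset.univ.filter fun x : X => orderOf x = 17).card = 288 := by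
  haveI := h.finite
  classical
  haveI := Fintype.ofFinite Ω
  choose u hu using h.rot
  have heq : (Finset.univ.filter fun x : X => orderOf x = 17) =
      Finset.univ.biUnion fun a => (Subgroup.zpowers (u a) : Set X).toFinset.erase 1 := by
    ext x
    simp only [Finset.mem_filter, Finset.mem_univ, true_and, Finset.mem_biUnion, Finset.mem_erase,
      Set.mem_toFinset, SetLike.mem_coe]
    constructor
    · intro hx
      obtain ⟨a, v, hv, hxv⟩ := mem_rot_of_orderOf h hx
      have hx1 : x ≠ 1 := by rintro rfl; simp at hx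
      refine ⟨a, hx1, ?_⟩
      have hva : v • a = a := hv.2.1
      obtain ⟨k, hk⟩ := (hu a).2.2.2 v hva
      have hvu : v ∈ Subgroup.zpowers (u a) :=
        eq_of_commute h (hu a) (commute_of_conj hv.1 (hu a).1 hk.symm)
      exact (Subgroup.zpowers_le.2 hvu) hxv
    · rintro ⟨a, hx1, hxa⟩
      exact orderOf_rot (hu a) hxa hx1
  rw [heq, Finset.card_biUnion]
  · have : ∀ a : Ω, ((Subgroup.zpowers (u a) : Set X).toFinset.erase 1).card = 16 := by
      intro a
      rw [Finset.card_erase_of_mem (by simp), Set.toFinset_card, ← Nat.card_eq_fintype_card]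
      show Nat.card (Subgroup.zpowers (u a)) - 1 = 16
      rw [Nat.card_zpowers, (hu a).1]
    rw [Finset.sum_congr rfl (fun a _ => this a), Finset.sum_const, Finset.card_univ,
      ← Nat.card_eq_fintype_card, h.card_points]
    norm_num
  · intro a _ b _ hab
    show Disjoint _ _
    rw [Finset.disjoint_left]
    intro x hx hx'
    simp only [Finset.mem_erase, Set.mem_toFinset, SetLike.mem_coe] at hx hx'
    exact hab (rot_subsingleton (hu a) (hu b) hx.2 hx'.2 hx.1)

theorem exists_fixed_pair (h : Setup X Ω) [FaithfulSMul X Ω] [Fintype Ω] [DecidableEq Ω]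
    (heven : AllEven X Ω) {t : X} (ht : orderOf t = 2) :
    ∃ a b : Ω, b ≠ a ∧ t • a = a ∧ t • b = b := by
  set σ : Equiv.Perm Ω := toPermHom X Ω t with hσ
  have ho : orderOf σ = 2 := by
    rw [hσ, orderOf_injective (toPermHom X Ω) MulAction.toPerm_injective, ht]
  obtain ⟨n, hn⟩ := Equiv.Perm.cycleType_prime_order (by rw [ho]; exact Nat.prime_two)
  rw [ho] at hn
  have hsum := Equiv.Perm.sum_cycleType σ
  have hsign := Equiv.Perm.sign_of_cycleType σ
  rw [hn] at hsum hsign
  rw [heven t] at hsign
  simp only [Multiset.sum_replicate, smul_eq_mul, Multiset.card_replicate] at hsum hsign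
  have hodd : Even ((n + 1) * 2 + (n + 1)) := by
    rcases Nat.even_or_odd ((n + 1) * 2 + (n + 1)) with he | he
    · exact he
    · rw [he.neg_one_pow] at hsign; exact absurd hsign (by decide)
  have hle : σ.support.card ≤ 18 := by
    have := Finset.card_le_univ σ.support
    rwa [← Nat.card_eq_fintype_card, h.card_points] at this
  have hne : σ.support.card ≠ 18 := by
    rw [← hsum]
    rw [Nat.even_add, Nat.even_mul] at hodd
    simp only [even_two, or_true, true_iff] at hodd
    obtain ⟨k, hk⟩ := hodd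
    omega
  have hc : 1 < (σ.supportᶜ).card := by
    rw [Finset.card_compl, ← Nat.card_eq_fintype_card, h.card_points]
    omega
  obtain ⟨a, ha, b, hb, hab⟩ := Finset.one_lt_card.1 hc
  rw [Finset.mem_compl, Equiv.Perm.notMem_support] at ha hb
  exact ⟨a, b, hab.symm, ha, hb⟩

theorem commute_three_eq_one (h : Setup X Ω) [FaithfulSMul X Ω] {t x : X} {a b : Ω} (hab : b ≠ a)
    (hta : t • a = a) (htb : t • b = b) (ht1 : t ≠ 1) (hx : orderOf x ∣ 9) (hc : Commute t x) :
    x = 1 := by
  have hfix : ∀ c, t • c = c → c = a ∨ c = b := by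
    intro c hct
    by_contra hcon
    push Not at hcon
    exact ht1 (fix_three h hab hcon.1 hcon.2 hta htb hct)
  have hxa : x • a = a ∨ x • a = b := hfix _ (by rw [← mul_smul, hc.eq, mul_smul, hta])
  have hxb : x • b = a ∨ x • b = b := hfix _ (by rw [← mul_smul, hc.eq, mul_smul, htb])
  have h2 : x ^ 2 ∈ twoStab X a b := by
    rw [mem_twoStab, pow_two, mul_smul, mul_smul]
    rcases hxa with h1 | h1 <;> rcases hxb with h3 | h3
    · exact absurd (smul_left_cancel x (h3.trans h1.symm)) hab
    · exact ⟨by rw [h1, h1], by rw [h3, h3]⟩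
    · exact ⟨by rw [h1, h3], by rw [h3, h1]⟩
    · exact absurd (smul_left_cancel x (h3.trans h1.symm)) hab
  have h3 : (x ^ 2) ^ 16 = 1 := by
    have := card_twoStab_dvd h hab
    exact orderOf_dvd_iff_pow_eq_one.1 ((Subgroup.orderOf_dvd_natCard _ h2).trans this)
  rw [← pow_mul] at h3
  have h4 := Nat.dvd_gcd (orderOf_dvd_of_pow_eq_one h3) hx
  exact orderOf_eq_one_iff.1 (Nat.dvd_one.1 (by simpa using h4))

theorem not_commute_seventeen (h : Setup X Ω) [FaithfulSMul X Ω] [Finite X] {y x : X}
    (hy : orderOf y = 17) (hc : Commute y x) : orderOf x ∣ 17 := by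
  obtain ⟨a, u, hu, hyu⟩ := mem_rot_of_orderOf h hy
  have hy1 : y ≠ 1 := by rintro rfl; simp at hy
  obtain ⟨k, hk⟩ := hu.mem_zpowers hyu hy1
  have : Commute x u := by
    rw [← hk]
    exact hc.symm.zpow_right k
  rw [← hu.1]
  exact orderOf_dvd_of_mem_zpowers (eq_of_commute h hu this)

variable [FaithfulSMul X Ω] [Finite X] [Fintype Ω] [DecidableEq Ω]

theorem centralizer_three (h : Setup X Ω) (heven : AllEven X Ω) {x : X} (hx1 : x ≠ 1)
    (hx : orderOf x ∣ 9) : Nat.card (Subgroup.centralizer {x}) ∣ 9 := by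
  refine coprime_parts ((Subgroup.card_subgroup_dvd_card _).trans (dvd_bound h)) (fun h2 => ?_)
    (fun h17 => ?_)
  · obtain ⟨⟨t, htc⟩, ht⟩ := exists_prime_orderOf_dvd_card' (hp := ⟨Nat.prime_two⟩) 2 h2
    rw [← Subgroup.orderOf_coe] at ht
    obtain ⟨a, b, hab, ha, hb⟩ := exists_fixed_pair h heven ht
    refine hx1 (commute_three_eq_one h hab ha hb ?_ hx
      (Subgroup.mem_centralizer_singleton_iff.1 htc))
    intro e
    simp [show t = 1 from e] at ht
  · obtain ⟨⟨y, hyc⟩, hy⟩ := exists_prime_orderOf_dvd_card' 17 h17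
    rw [← Subgroup.orderOf_coe] at hy
    have hd := Nat.dvd_gcd (not_commute_seventeen h hy
      (Subgroup.mem_centralizer_singleton_iff.1 hyc)) hx
    exact hx1 (orderOf_eq_one_iff.1 (Nat.dvd_one.1 (by simpa using hd)))

theorem card_three (h : Setup X Ω) (heven : AllEven X Ω) [Fintype X] [DecidableEq X] :
    (Finset.univ.filter fun x : X => x ≠ 1 ∧ orderOf x ∣ 9).card = 8 * Nat.card (Sylow 3 X) := by
  classical
  haveI : Fact (Nat.Prime 3) := ⟨by norm_num⟩
  haveI := Fintype.ofFinite (Sylow 3 X)
  have heq : (Finset.univ.filter fun x : X => x ≠ 1 ∧ orderOf x ∣ 9) =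
      Finset.univ.biUnion fun S : Sylow 3 X => ((S : Subgroup X) : Set X).toFinset.erase 1 := by
    ext x
    simp only [Finset.mem_filter, Finset.mem_univ, true_and, Finset.mem_biUnion, Finset.mem_erase,
      Set.mem_toFinset, SetLike.mem_coe]
    constructor
    · rintro ⟨hx1, hx⟩
      have hp : IsPGroup 3 (Subgroup.zpowers x) := by
        obtain ⟨k, -, hk⟩ := (Nat.dvd_prime_pow Nat.prime_three).1 (show orderOf x ∣ 3 ^ 2 from hx)
        exact IsPGroup.of_card (n := k) (by rw [Nat.card_zpowers, hk])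
      obtain ⟨S, hS⟩ := hp.exists_le_sylow
      exact ⟨S, hx1, hS (Subgroup.mem_zpowers x)⟩
    · rintro ⟨S, hx1, hxS⟩
      refine ⟨hx1, ?_⟩
      rw [← card_sylow_three_card h S]
      exact Subgroup.orderOf_dvd_natCard _ hxS
  rw [heq, Finset.card_biUnion]
  · have : ∀ S : Sylow 3 X, (((S : Subgroup X) : Set X).toFinset.erase 1).card = 8 := by
      intro S
      rw [Finset.card_erase_of_mem (by simp), Set.toFinset_card, ← Nat.card_eq_fintype_card]
      show Nat.card (S : Subgroup X) - 1 = 8
      rw [card_sylow_three_card h S]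
    rw [Finset.sum_congr rfl (fun S _ => this S), Finset.sum_const, Finset.card_univ,
      ← Nat.card_eq_fintype_card, smul_eq_mul, mul_comm]
  · intro S _ S' _ hne
    show Disjoint _ _
    rw [Finset.disjoint_left]
    intro x hx hx'
    simp only [Finset.mem_erase, Set.mem_toFinset, SetLike.mem_coe] at hx hx'
    have hx9 : orderOf x ∣ 9 := card_sylow_three_card h S ▸ Subgroup.orderOf_dvd_natCard _ hx.2
    have key : ∀ T : Sylow 3 X, x ∈ (T : Subgroup X) →
        (T : Subgroup X) = Subgroup.centralizer {x} := by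
      intro T hT
      have hle : (T : Subgroup X) ≤ Subgroup.centralizer {x} := by
        intro z hz
        rw [Subgroup.mem_centralizer_singleton_iff]
        have hcard : Nat.card (T : Subgroup X) = 3 ^ 2 := by rw [card_sylow_three_card h T]; rfl
        exact congrArg Subtype.val
          ((IsPGroup.isMulCommutative_of_card_eq_prime_sq hcard).is_comm.comm ⟨z, hz⟩ ⟨x, hT⟩)
      refine Subgroup.eq_of_le_of_card_ge hle ?_
      rw [card_sylow_three_card h T]
      exact Nat.le_of_dvd (by norm_num) (centralizer_three h heven hx.1 hx9)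
    exact hne (Sylow.ext ((key S hx.2).trans (key S' hx'.2).symm))

/-- The number of Sylow 3-subgroups and the order, when all elements are even and that number
divides 136. -/
theorem even_count (h : Setup X Ω) (heven : AllEven X Ω) (hn : Nat.card (Sylow 3 X) ∣ 136) :
    Nat.card (Sylow 3 X) = 136 ∧ Nat.card X = 2448 := by
  classical
  haveI := Fintype.ofFinite X
  haveI : Fact (Nat.Prime 3) := ⟨by norm_num⟩
  obtain ⟨a⟩ : Nonempty Ω :=
    (Nat.card_pos_iff.1 (by rw [h.card_points]; norm_num : 0 < Nat.card Ω)).1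
  obtain ⟨b, hb, -⟩ := h.exists_ne_pair a a
  have hX := card_group h hb
  have hd := card_twoStab_dvd h hb
  have h2X : 2 ∣ Nat.card X := by rw [hX]; exact Dvd.dvd.mul_right (by norm_num) _
  obtain ⟨t₀, ht₀⟩ := exists_prime_orderOf_dvd_card' (hp := ⟨Nat.prime_two⟩) 2 h2X
  obtain ⟨a₀, b₀, hab₀, ha₀, hb₀⟩ := exists_fixed_pair h heven ht₀
  -- all involutions are conjugate
  set inv := Finset.univ.filter fun x : X => orderOf x = 2 with hinv
  let fixed : X → Finset Ω := fun t => Finset.univ.filter fun c => t • c = c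
  have hfix : ∀ {t : X} {a b : Ω}, b ≠ a → t • a = a → t • b = b → t ≠ 1 →
      fixed t = {a, b} := by
    intro t a b hab hta htb ht1
    ext c
    simp only [fixed, Finset.mem_filter, Finset.mem_univ, true_and, Finset.mem_insert,
      Finset.mem_singleton]
    refine ⟨fun hc => ?_, fun hc => ?_⟩
    · by_contra hcon
      push Not at hcon
      exact ht1 (fix_three h hab hcon.1 hcon.2 hta htb hc)
    · rcases hc with rfl | rfl <;> assumption
  have hne1 : ∀ {t : X}, orderOf t = 2 → t ≠ 1 := fun {t} ht e => by simp [e] at ht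
  have hconj : ∀ t : X, orderOf t = 2 → ∃ g : X, g * t₀ * g⁻¹ = t := by
    intro t ht
    obtain ⟨a, b, hab, ha, hb⟩ := exists_fixed_pair h heven ht
    obtain ⟨g, hga, hgb⟩ := h.exists_smul_pair hab₀.symm hab.symm
    refine ⟨g, involution_unique h hab ?_ ⟨ha, hb⟩ ?_ ht⟩
    · refine ⟨?_, ?_⟩
      · show (g * t₀ * g⁻¹) • a = a
        rw [mul_smul, mul_smul, show g⁻¹ • a = a₀ by rw [← hga, inv_smul_smul], ha₀, hga]
      · show (g * t₀ * g⁻¹) • b = b
        rw [mul_smul, mul_smul, show g⁻¹ • b = b₀ by rw [← hgb, inv_smul_smul], hb₀, hgb]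
    · rw [← ht₀]
      exact (MulAut.conj g).orderOf_eq t₀
  have hinvcard : inv.card = 153 := by
    rw [show 153 = ((Finset.univ : Finset Ω).powersetCard 2).card by
      rw [Finset.card_powersetCard, Finset.card_univ, ← Nat.card_eq_fintype_card, h.card_points]
      decide]
    refine Finset.card_bij (fun t _ => fixed t) (fun t ht => ?_) (fun t ht t' ht' e => ?_)
      (fun s hs => ?_)
    · simp only [inv, Finset.mem_filter, Finset.mem_univ, true_and] at ht
      obtain ⟨a, b, hab, ha, hb⟩ := exists_fixed_pair h heven ht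
      rw [hfix hab ha hb (hne1 ht), Finset.mem_powersetCard]
      exact ⟨Finset.subset_univ _, Finset.card_pair hab.symm⟩
    · simp only [inv, Finset.mem_filter, Finset.mem_univ, true_and] at ht ht'
      obtain ⟨a, b, hab, ha, hb⟩ := exists_fixed_pair h heven ht
      have e' : fixed t' = {a, b} := e ▸ hfix hab ha hb (hne1 ht)
      have ha' : t' • a = a := by
        have := (Finset.ext_iff.1 e' a).2 (by simp)
        simpa [fixed] using this
      have hb' : t' • b = b := by
        have := (Finset.ext_iff.1 e' b).2 (by simp)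
        simpa [fixed] using this
      exact involution_unique h hab ⟨ha, hb⟩ ⟨ha', hb'⟩ ht ht'
    · obtain ⟨a, b, hab, rfl⟩ := Finset.card_eq_two.1 (Finset.mem_powersetCard.1 hs).2
      obtain ⟨g, hga, hgb⟩ := h.exists_smul_pair hab₀.symm hab
      have ho : orderOf (g * t₀ * g⁻¹) = 2 := by
        rw [← ht₀]; exact (MulAut.conj g).orderOf_eq t₀
      refine ⟨g * t₀ * g⁻¹, by simp [inv, ho], hfix hab.symm ?_ ?_ (hne1 ho)⟩
      · rw [mul_smul, mul_smul, show g⁻¹ • a = a₀ by rw [← hga, inv_smul_smul], ha₀, hga]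
      · rw [mul_smul, mul_smul, show g⁻¹ • b = b₀ by rw [← hgb, inv_smul_smul], hb₀, hgb]
  -- elements of even order
  set E := Finset.univ.filter fun x : X => 2 ∣ orderOf x with hE
  let f : X → X := fun x => x ^ (orderOf x / 2)
  have hmaps : ∀ x ∈ E, f x ∈ inv := by
    intro x hx
    simp only [E, Finset.mem_filter, Finset.mem_univ, true_and] at hx
    simp only [inv, f, Finset.mem_filter, Finset.mem_univ, true_and]
    exact orderOf_pow_orderOf_div (orderOf_pos x).ne' hx
  have hfib : ∀ t ∈ inv, (E.filter fun x => f x = t).card = (E.filter fun x => f x = t₀).card := by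
    intro t ht
    simp only [inv, Finset.mem_filter, Finset.mem_univ, true_and] at ht
    obtain ⟨g, hg⟩ := hconj t ht
    have hord : ∀ x : X, orderOf (g * x * g⁻¹) = orderOf x := (MulAut.conj g).orderOf_eq
    refine (Finset.card_bij (fun x _ => g * x * g⁻¹) (fun x hx => ?_)
      (fun x _ x' _ e => ?_) (fun y hy => ?_)).symm
    · simp only [E, f, Finset.mem_filter, Finset.mem_univ, true_and] at hx ⊢
      rw [hord, conj_pow, hx.2, hg]
      exact ⟨hx.1, rfl⟩
    · simpa using e
    · refine ⟨g⁻¹ * y * g, ?_, by group⟩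
      simp only [E, f, Finset.mem_filter, Finset.mem_univ, true_and] at hy ⊢
      have ho : orderOf (g⁻¹ * y * g) = orderOf y := by
        have := hord (g⁻¹ * y * g)
        rwa [show g * (g⁻¹ * y * g) * g⁻¹ = y by group, eq_comm] at this
      rw [ho]
      refine ⟨hy.1, ?_⟩
      rw [show g⁻¹ * y * g = g⁻¹ * y * g⁻¹⁻¹ by rw [inv_inv], conj_pow, hy.2, ← hg]
      group
  have hEcard : E.card = 153 * (E.filter fun x => f x = t₀).card := by
    rw [Finset.card_eq_sum_card_fiberwise hmaps, Finset.sum_congr rfl hfib, Finset.sum_const,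
      hinvcard, smul_eq_mul]
  -- the remaining elements
  have hodd : Eᶜ = insert (1 : X) ((Finset.univ.filter fun x : X => orderOf x = 17) ∪
      (Finset.univ.filter fun x : X => x ≠ 1 ∧ orderOf x ∣ 9)) := by
    ext x
    simp only [E, Finset.mem_compl, Finset.mem_filter, Finset.mem_univ, true_and,
      Finset.mem_insert, Finset.mem_union]
    constructor
    · intro hx
      by_cases hx1 : x = 1
      · exact Or.inl hx1
      refine Or.inr ?_
      by_cases h17 : 17 ∣ orderOf x
      · left
        have hy : orderOf (x ^ (orderOf x / 17)) = 17 :=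
          orderOf_pow_orderOf_div (orderOf_pos x).ne' h17
        exact Nat.dvd_antisymm (not_commute_seventeen h hy ((Commute.refl x).pow_left _)) h17
      · right
        exact ⟨hx1, coprime_parts ((orderOf_dvd_natCard x).trans (dvd_bound h)) hx h17⟩
    · rintro (rfl | hx | hx) h2
      · simp at h2
      · rw [hx] at h2; norm_num at h2
      · have := h2.trans hx.2; norm_num at this
  have hdisj : Disjoint (Finset.univ.filter fun x : X => orderOf x = 17)
      (Finset.univ.filter fun x : X => x ≠ 1 ∧ orderOf x ∣ 9) := by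
    rw [Finset.disjoint_left]
    intro x hx hx'
    simp only [Finset.mem_filter, Finset.mem_univ, true_and] at hx hx'
    have := hx ▸ hx'.2
    norm_num at this
  have hsum := Finset.card_add_card_compl E
  rw [hodd, Finset.card_insert_of_notMem (by simp), Finset.card_union_of_disjoint hdisj,
    card_seventeen h, card_three h heven, hEcard, ← Nat.card_eq_fintype_card, hX] at hsum
  have hmod : Nat.card (Sylow 3 X) % 3 = 1 := card_sylow_modEq_one 3 X
  generalize (E.filter fun x => f x = t₀).card = m at hsum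
  generalize Nat.card (Sylow 3 X) = n at hsum hn hmod ⊢
  have hn136 : n = 136 := by
    have hmem : n ∈ Nat.divisors 136 := Nat.mem_divisors.2 ⟨hn, by norm_num⟩
    rw [show Nat.divisors 136 = {1, 2, 4, 8, 17, 34, 68, 136} by decide] at hmem
    simp only [Finset.mem_insert, Finset.mem_singleton] at hmem
    rcases hmem with rfl | rfl | rfl | rfl | rfl | rfl | rfl | rfl <;> omega
  refine ⟨hn136, ?_⟩
  subst hn136
  rw [hX]
  have hd16 : Nat.card (twoStab X a b) ≠ 16 := by
    intro h16
    haveI := isCyclic_twoStab h hb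
    obtain ⟨⟨g, hgmem⟩, hgo⟩ := IsCyclic.exists_ofOrder_eq_natCard (α := twoStab X a b)
    rw [← Subgroup.orderOf_coe, h16] at hgo
    set σ : Equiv.Perm Ω := toPermHom X Ω g with hσ
    have hga : g • a = a := hgmem.1
    have hgb : g • b = b := hgmem.2
    have hfree : ∀ c, c ≠ a → c ≠ b → ∀ i j : Fin 16,
        g ^ (i : ℕ) • c = g ^ (j : ℕ) • c → i = j := by
      intro c hca hcb i j hij
      have h1 : (g ^ (j : ℕ))⁻¹ * g ^ (i : ℕ) = 1 := by
        refine fix_three h hb hca hcb ?_ ?_ (by rw [mul_smul, hij, inv_smul_smul])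
        · exact mul_mem (s := stabilizer X a) (inv_mem (pow_mem hga _)) (pow_mem hga _)
        · exact mul_mem (s := stabilizer X b) (inv_mem (pow_mem hgb _)) (pow_mem hgb _)
      have h2 := pow_inj_mod.1 (inv_mul_eq_one.1 h1).symm
      rw [hgo, Nat.mod_eq_of_lt i.2, Nat.mod_eq_of_lt j.2] at h2
      exact Fin.ext h2
    have hsupp : σ.support = Finset.univ \ {a, b} := by
      ext c
      simp only [Equiv.Perm.mem_support, Finset.mem_sdiff, Finset.mem_univ, true_and,
        Finset.mem_insert, Finset.mem_singleton]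
      constructor
      · rintro hc (rfl | rfl)
        · exact hc hga
        · exact hc hgb
      · intro hc e
        push Not at hc
        have := hfree c hc.1 hc.2 ⟨1, by norm_num⟩ ⟨0, by norm_num⟩
          (by rw [pow_one, pow_zero, one_smul]; exact e)
        simp at this
    have hcard16 : σ.support.card = 16 := by
      rw [hsupp, Finset.card_sdiff_of_subset (Finset.subset_univ _), Finset.card_univ,
        ← Nat.card_eq_fintype_card, h.card_points, Finset.card_pair hb.symm]
    obtain ⟨c, hca, hcb⟩ := h.exists_ne_pair a b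
    have hcyc : σ.IsCycle := by
      refine ⟨c, ?_, fun e he => ?_⟩
      · rw [← Equiv.Perm.mem_support, hsupp]; simp [hca, hcb]
      · let F : Fin 16 → σ.support := fun i => ⟨g ^ (i : ℕ) • c, by
          rw [hsupp]
          simp only [Finset.mem_sdiff, Finset.mem_univ, true_and, Finset.mem_insert,
            Finset.mem_singleton, not_or]
          exact ⟨fun e => hca (smul_left_cancel (g ^ (i : ℕ))
              (e.trans (mem_stabilizer_iff.1 (pow_mem (mem_stabilizer_iff.2 hga) _)).symm)),
            fun e => hcb (smul_left_cancel (g ^ (i : ℕ))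
              (e.trans (mem_stabilizer_iff.1 (pow_mem (mem_stabilizer_iff.2 hgb) _)).symm))⟩⟩
        have hF : Function.Bijective F := by
          rw [Fintype.bijective_iff_injective_and_card]
          exact ⟨fun i j hij => hfree c hca hcb i j (congrArg Subtype.val hij),
            by rw [Fintype.card_fin, Fintype.card_coe, hcard16]⟩
        obtain ⟨i, hi⟩ := hF.2 ⟨e, Equiv.Perm.mem_support.2 he⟩
        refine ⟨((i : ℕ) : ℤ), ?_⟩
        rw [zpow_natCast, hσ, ← map_pow]
        exact congrArg Subtype.val hi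
    have := heven g
    rw [← hσ, hcyc.sign, hcard16] at this
    exact absurd this (by decide)
  have hmem : Nat.card (twoStab X a b) ∈ Nat.divisors 16 :=
    Nat.mem_divisors.2 ⟨hd, by norm_num⟩
  rw [show Nat.divisors 16 = {1, 2, 4, 8, 16} by decide] at hmem
  simp only [Finset.mem_insert, Finset.mem_singleton] at hmem
  rcases hmem with h1 | h1 | h1 | h1 | h1 <;> rw [h1] at hsum hd16 ⊢ <;> omega

end CfsgLib.SylowEighteen
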