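import Cfsg.Agent.SylowEighteen.Count

/-!
# Order, Sylow numbers and simplicity for groups on 18 points
-/

set_option autoImplicit false
set_option linter.style.haveILetI false

namespace CfsgLib.SylowEighteen

open MulAction

/-- A subgroup containing all Sylow `p`-subgroups has as many of them. -/
theorem card_sylow_of_forall_le {G : Type*} [Group G] [Finite G] {p : ℕ} [Fact p.Prime]
    (H : Subgroup G) (hH : ∀ P : Sylow p G, (P : Subgroup G) ≤ H) :
    Nat.card (Sylow p H) = Nat.card (Sylow p G) := by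
  refine (Nat.card_eq_of_bijective (fun P : Sylow p G => P.subtype (hH P)) ⟨?_, ?_⟩).symm
  · exact fun P Q e => Sylow.subtype_injective e
  · intro Q
    obtain ⟨P, hP⟩ := (Q.isPGroup'.map H.subtype).exists_le_sylow
    refine ⟨P, Sylow.ext (Q.3 (P.subtype (hH P)).isPGroup' ?_)⟩
    intro x hx
    exact hP ⟨x, hx, rfl⟩

variable {X Ω : Type*} [Group X] [MulAction X Ω] [FaithfulSMul X Ω] [Finite X] [Fintype Ω]
  [DecidableEq Ω]

/-- The even elements. -/
def evenSubgroup (X Ω : Type*) [Group X] [MulAction X Ω] [Fintype Ω] [DecidableEq Ω] :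
    Subgroup X :=
  (Equiv.Perm.sign.comp (toPermHom X Ω)).ker

omit [FaithfulSMul X Ω] [Finite X] in
theorem mem_evenSubgroup_of_odd {x : X} (hx : Odd (orderOf x)) : x ∈ evenSubgroup X Ω := by
  show Equiv.Perm.sign (toPermHom X Ω x) = 1
  rcases Int.units_eq_one_or (Equiv.Perm.sign (toPermHom X Ω x)) with h | h
  · exact h
  · have h1 : (Equiv.Perm.sign (toPermHom X Ω x)) ^ orderOf x = 1 := by
      rw [← map_pow, ← map_pow, pow_orderOf_eq_one, map_one, map_one]
    rw [h, hx.neg_one_pow] at h1
    exact absurd h1 (by decide)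

omit [FaithfulSMul X Ω] [Finite X] in
theorem index_evenSubgroup : (evenSubgroup X Ω).index ∣ 2 := by
  rw [evenSubgroup, Subgroup.index_ker]
  have := Subgroup.card_subgroup_dvd_card (Equiv.Perm.sign.comp (toPermHom X Ω)).range
  rwa [Nat.card_eq_fintype_card (α := ℤˣ), Fintype.card_units_int] at this

/-- The structure of a group on 18 points whose number of Sylow 3-subgroups divides 136. -/
theorem main (h : Setup X Ω) (hn : Nat.card (Sylow 3 X) ∣ 136) :
    Nat.card (Sylow 3 X) = 136 ∧ Nat.card (evenSubgroup X Ω) = 2448 ∧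
      (Nat.card X = 2448 ∨ Nat.card X = 4896) := by
  haveI : Fact (Nat.Prime 3) := ⟨by norm_num⟩
  have h' : Setup (evenSubgroup X Ω) Ω :=
    h.of_subgroup _ fun x hx => mem_evenSubgroup_of_odd (by rw [hx]; decide)
  have heven : AllEven (evenSubgroup X Ω) Ω := fun x => x.2
  have h3 : Nat.card (Sylow 3 (evenSubgroup X Ω)) = Nat.card (Sylow 3 X) := by
    refine card_sylow_of_forall_le _ fun P x hx => mem_evenSubgroup_of_odd ?_
    obtain ⟨k, hk⟩ := IsPGroup.iff_orderOf.1 P.isPGroup' ⟨x, hx⟩
    rw [← Subgroup.orderOf_coe] at hk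
    rw [show orderOf x = 3 ^ k from hk]
    exact Odd.pow (by decide)
  obtain ⟨hn', hc⟩ := even_count h' heven (by rw [h3]; exact hn)
  refine ⟨h3 ▸ hn', hc, ?_⟩
  have := (evenSubgroup X Ω).card_mul_index
  rw [hc] at this
  rcases (Nat.dvd_prime Nat.prime_two).1 (index_evenSubgroup (X := X) (Ω := Ω)) with h2 | h2 <;>
    rw [h2] at this <;> omega

omit [Fintype Ω] [DecidableEq Ω] in
/-- The number of Sylow 2-subgroups. -/
theorem card_sylow_two (h : Setup X Ω) (hX : Nat.card X = 2448 ∨ Nat.card X = 4896) :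
    Nat.card (Sylow 2 X) = 153 := by
  haveI : Fact (Nat.Prime 2) := ⟨Nat.prime_two⟩
  obtain ⟨a⟩ : Nonempty Ω :=
    (Nat.card_pos_iff.1 (by rw [h.card_points]; norm_num : 0 < Nat.card Ω)).1
  obtain ⟨b, hb, -⟩ := h.exists_ne_pair a a
  have hXd := card_group h hb
  set d := Nat.card (twoStab X a b) with hd
  have hd4 : d = 8 ∨ d = 16 := by omega
  haveI := isCyclic_twoStab h hb
  obtain ⟨⟨y, hym⟩, hy⟩ := IsCyclic.exists_ofOrder_eq_natCard (α := twoStab X a b)
  rw [← Subgroup.orderOf_coe, ← hd] at hy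
  have hy' : orderOf y = d := hy
  set z := y ^ (d / 2) with hzdef
  have hz : orderOf z = 2 := by
    rw [hzdef, ← hy']
    exact orderOf_pow_orderOf_div (by rw [hy']; omega) (by rw [hy']; omega)
  have hzm : z ∈ twoStab X a b := pow_mem hym _
  have hza : z • a = a := hzm.1
  have hzb : z • b = b := hzm.2
  have hz1 : z ≠ 1 := fun e => by simp [e] at hz
  -- elements of the centralizer
  set C : Subgroup X := Subgroup.centralizer {z} with hC
  have hpair : ∀ x ∈ C, (x • a = a ∧ x • b = b) ∨ (x • a = b ∧ x • b = a) := by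
    intro x hx
    have hxz : z * x = x * z := (Subgroup.mem_centralizer_singleton_iff.1 hx).symm
    have hfix : ∀ c, z • c = c → c = a ∨ c = b := by
      intro c hc
      by_contra hcon
      push Not at hcon
      exact hz1 (fix_three h hb hcon.1 hcon.2 hza hzb hc)
    have h1 := hfix (x • a) (by rw [← mul_smul, hxz, mul_smul, hza])
    have h2 := hfix (x • b) (by rw [← mul_smul, hxz, mul_smul, hzb])
    rcases h1 with h1 | h1 <;> rcases h2 with h2 | h2
    · exact absurd (smul_left_cancel x (h2.trans h1.symm)) hb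
    · exact Or.inl ⟨h1, h2⟩
    · exact Or.inr ⟨h1, h2⟩
    · exact absurd (smul_left_cancel x (h2.trans h1.symm)) hb
  have hsq : ∀ x ∈ C, x ^ 2 ∈ twoStab X a b := by
    intro x hx
    rw [mem_twoStab, pow_two, mul_smul, mul_smul]
    rcases hpair x hx with ⟨h1, h2⟩ | ⟨h1, h2⟩
    · exact ⟨by rw [h1, h1], by rw [h2, h2]⟩
    · exact ⟨by rw [h1, h2], by rw [h2, h1]⟩
  have hTC : twoStab X a b ≤ C := by
    intro x hx
    rw [hC, Subgroup.mem_centralizer_singleton_iff]
    have hc := involution_unique h hb (s := x * z * x⁻¹) (t := z)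
      (mul_mem (mul_mem hx hzm) (inv_mem hx)) hzm
      (((MulAut.conj x).orderOf_eq z).trans hz) hz
    exact mul_inv_eq_iff_eq_mul.1 hc
  -- the order of the centralizer
  obtain ⟨g, hga, hgb⟩ := h.exists_smul_pair hb.symm hb
  have hgC : g ∈ C := by
    rw [hC, Subgroup.mem_centralizer_singleton_iff]
    refine mul_inv_eq_iff_eq_mul.1 (involution_unique h hb (s := g * z * g⁻¹) (t := z) ?_ hzm
      (((MulAut.conj g).orderOf_eq z).trans hz) hz)
    refine ⟨?_, ?_⟩
    · show (g * z * g⁻¹) • a = a
      rw [mul_smul, mul_smul, show g⁻¹ • a = b by rw [← hgb, inv_smul_smul], hzb, hgb]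
    · show (g * z * g⁻¹) • b = b
      rw [mul_smul, mul_smul, show g⁻¹ • b = a by rw [← hga, inv_smul_smul], hza, hga]
  have hCcard : Nat.card C = 2 * d := by
    have hst : stabilizer C a = (twoStab X a b).subgroupOf C := by
      ext x
      rw [mem_stabilizer_iff, Subgroup.mem_subgroupOf, mem_twoStab]
      refine ⟨fun hx => ?_, fun hx => hx.1⟩
      rcases hpair x x.2 with h1 | h1
      · exact h1
      · exact absurd (h1.1.symm.trans hx) hb
    have horb : orbit C a = {a, b} := by
      ext c
      constructor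
      · rintro ⟨x, rfl⟩
        rcases hpair x x.2 with h1 | h1
        · exact Or.inl h1.1
        · exact Or.inr h1.1
      · rintro (rfl | rfl)
        · exact mem_orbit_self _
        · exact ⟨⟨g, hgC⟩, hga⟩
    rw [← (stabilizer C a).card_mul_index, index_stabilizer, horb, Set.ncard_pair hb.symm, hst,
      Nat.card_congr (Subgroup.subgroupOfEquivOfLe hTC).toEquiv, mul_comm]
  have hCp : IsPGroup 2 C := by
    rcases hd4 with h8 | h8
    · exact IsPGroup.of_card (n := 4) (by rw [hCcard, h8]; rfl)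
    · exact IsPGroup.of_card (n := 5) (by rw [hCcard, h8]; rfl)
  have hidx : C.index = 153 := by
    have := C.card_mul_index
    rw [hCcard, hXd] at this
    rcases hd4 with h8 | h8 <;> rw [h8] at this <;> omega
  let S : Sylow 2 X := hCp.toSylow (by rw [hidx]; decide)
  have hnorm : Subgroup.normalizer (C : Set X) = C := by
    refine le_antisymm (fun x hx => ?_) Subgroup.le_normalizer
    rw [Subgroup.mem_normalizer_iff] at hx
    -- `z` is a square in `C`
    have he : y ^ (d / 4) ∈ C := pow_mem (hTC hym) _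
    have hzsq : z = (y ^ (d / 4)) ^ 2 := by
      rw [hzdef, ← pow_mul]
      congr 1
      omega
    have hmem : x * z * x⁻¹ ∈ twoStab X a b := by
      rw [hzsq, ← conj_pow]
      exact hsq _ ((hx _).1 he)
    have hc := involution_unique h hb hmem hzm (((MulAut.conj x).orderOf_eq z).trans hz) hz
    rw [hC, Subgroup.mem_centralizer_singleton_iff]
    exact mul_inv_eq_iff_eq_mul.1 hc
  rw [Sylow.card_eq_index_normalizer S]
  show (Subgroup.normalizer (C : Set X)).index = 153
  rw [hnorm, hidx]

omit [DecidableEq Ω] in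
/-- The group of order 2448 is simple. -/
theorem isSimpleGroup (h : Setup X Ω) (hX : Nat.card X = 2448)
    (h3 : Nat.card (Sylow 3 X) = 136) : IsSimpleGroup X := by
  classical
  haveI : Fact (Nat.Prime 3) := ⟨by norm_num⟩
  haveI : Fact (Nat.Prime 17) := ⟨by norm_num⟩
  haveI : Nontrivial X := Finite.one_lt_card_iff_nontrivial.1 (by omega)
  refine ⟨fun N hN => ?_⟩
  by_contra hcon
  push Not at hcon
  obtain ⟨hNb, hNt⟩ := hcon
  have hnine : ∀ M : Subgroup X, M.Normal → 9 ∣ Nat.card M →
      Nat.card (Sylow 3 M) = 136 := by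
    intro M hM h9
    rw [← h3]
    refine card_sylow_of_forall_le M fun P => ?_
    obtain ⟨Q⟩ : Nonempty (Sylow 3 M) := inferInstance
    have hQ : 9 ∣ Nat.card Q := Q.pow_dvd_card_of_pow_dvd_card (n := 2) h9
    have hQm : Nat.card ((Q : Subgroup M).map M.subtype) = 9 := by
      rw [Subgroup.card_subtype]
      obtain ⟨R, hR⟩ := (Q.isPGroup'.map M.subtype).exists_le_sylow
      have := Subgroup.card_dvd_of_le hR
      rw [Subgroup.card_subtype, card_sylow_three_card h R] at this
      exact Nat.dvd_antisymm this hQ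
    obtain ⟨R, hR⟩ := (Q.isPGroup'.map M.subtype).exists_le_sylow
    have hReq : (R : Subgroup X) ≤ M := by
      rw [← Subgroup.eq_of_le_of_card_ge hR (by rw [hQm, card_sylow_three_card h R])]
      exact Subgroup.map_subtype_le _
    obtain ⟨g, rfl⟩ := exists_smul_eq X R P
    intro x hx
    rw [Sylow.coe_subgroup_smul] at hx
    obtain ⟨r, hr, rfl⟩ := (Set.mem_smul_set.1 hx)
    exact hM.conj_mem r (hReq hr) g
  obtain ⟨a⟩ : Nonempty Ω :=
    (Nat.card_pos_iff.1 (by rw [h.card_points]; norm_num : 0 < Nat.card Ω)).1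
  obtain ⟨u, hu⟩ := h.rot a
  by_cases h17 : 17 ∣ Nat.card N
  · obtain ⟨⟨y, hyN⟩, hy⟩ := exists_prime_orderOf_dvd_card' 17 h17
    rw [← Subgroup.orderOf_coe] at hy
    obtain ⟨a₀, v, hv, hyv⟩ := mem_rot_of_orderOf h hy
    have hvN : v ∈ N := Subgroup.zpowers_le.2 hyN
      (hv.mem_zpowers hyv (by intro e; simp [show y = 1 from e] at hy))
    have hall : ∀ x : X, orderOf x = 17 → x ∈ N := by
      intro x hx
      obtain ⟨b, w, hw, hxw⟩ := mem_rot_of_orderOf h hx
      refine (Subgroup.zpowers_le.2 ?_) hxw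
      obtain ⟨g, hg⟩ := h.exists_smul a₀ b
      obtain ⟨b', w', hw', hvw'⟩ :=
        mem_rot_of_orderOf h (y := g * v * g⁻¹) (((MulAut.conj g).orderOf_eq v).trans hv.1)
      have hb' : b = b' := by
        refine hw'.2.2.1 b ?_
        have h1 : (g * v * g⁻¹) ≠ 1 := by
          intro e
          have := ((MulAut.conj g).orderOf_eq v).trans hv.1
          rw [show MulAut.conj g v = g * v * g⁻¹ from rfl, e, orderOf_one] at this
          omega
        refine smul_eq_of_mem_zpowers (hw'.mem_zpowers hvw' h1) ?_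
        rw [mul_smul, mul_smul, show g⁻¹ • b = a₀ by rw [← hg, inv_smul_smul], hv.2.1, hg]
      obtain ⟨k, hk⟩ := hw.2.2.2 (g * v * g⁻¹) (by
        rw [mul_smul, mul_smul, show g⁻¹ • b = a₀ by rw [← hg, inv_smul_smul], hv.2.1, hg])
      have hcomm : g * v * g⁻¹ ∈ Subgroup.zpowers w :=
        eq_of_commute h hw (commute_of_conj
          (((MulAut.conj g).orderOf_eq v).trans hv.1) hw.1 hk.symm)
      refine Subgroup.zpowers_le.2 (hN.conj_mem v hvN g) (hw.mem_zpowers hcomm ?_)
      intro e
      have := ((MulAut.conj g).orderOf_eq v).trans hv.1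
      rw [show MulAut.conj g v = g * v * g⁻¹ from rfl, e, orderOf_one] at this
      omega
    have hN' : Setup N Ω := h.of_subgroup N hall
    have h18 : 9 ∣ Nat.card N := by
      obtain ⟨b, hb, -⟩ := h.exists_ne_pair a a
      rw [card_group hN' hb]
      exact Dvd.dvd.mul_right (by norm_num) _
    have hn := hnine N hN h18
    obtain ⟨-, hc, -⟩ := main hN' (by rw [hn])
    apply hNt
    refine Subgroup.eq_top_of_card_eq N (le_antisymm (Subgroup.card_le_card_group N) ?_)
    rw [hX, ← hc]
    exact Subgroup.card_le_card_group _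
  · have hfree : ∀ x ∈ N, x • a = a → x = 1 := by
      intro x hx hxa
      have hun : ∀ v : X, v ∈ N → v ∈ Subgroup.zpowers u → v = 1 := by
        intro v hvN hvu
        by_contra hv1
        refine h17 ?_
        rw [← orderOf_rot hu hvu hv1]
        exact Subgroup.orderOf_dvd_natCard _ hvN
      have hc : x * u * x⁻¹ * u⁻¹ = 1 := by
        refine hun _ ?_ (mul_mem (hu.2.2.2 x hxa) (inv_mem (Subgroup.mem_zpowers u)))
        rw [mul_assoc, mul_assoc]
        exact mul_mem hx (by simpa [mul_assoc] using hN.conj_mem _ (inv_mem hx) u)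
      rw [mul_inv_eq_one, mul_inv_eq_iff_eq_mul] at hc
      exact hun x hx (eq_of_commute h hu hc)
    haveI : Nontrivial N := (Subgroup.nontrivial_iff_ne_bot N).2 hNb
    obtain ⟨⟨x, hx⟩, hx1⟩ : ∃ x : N, x ≠ 1 := exists_ne 1
    have hxa : x • a ≠ a := fun e => hx1 (Subtype.ext (hfree x hx e))
    have hb : Function.Bijective fun n : N => (n : X) • a := by
      refine ⟨fun n m e => ?_, fun c => ?_⟩
      · have := hfree _ (mul_mem (inv_mem m.2) n.2)
          (by rw [mul_smul, show (n : X) • a = (m : X) • a from e, inv_smul_smul])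
        exact Subtype.ext (inv_mul_eq_one.1 this).symm
      · by_cases hc : c = a
        · exact ⟨1, by rw [hc]; exact one_smul X a⟩
        · obtain ⟨n, hn⟩ := hu.exists_pow h hxa hc
          refine ⟨⟨u ^ n * x * (u ^ n)⁻¹, hN.conj_mem x hx _⟩, ?_⟩
          show (u ^ n * x * (u ^ n)⁻¹) • a = c
          rw [mul_smul, mul_smul, show (u ^ n)⁻¹ • a = a by
            rw [inv_smul_eq_iff, smul_eq_of_mem_zpowers (Subgroup.npow_mem_zpowers u n) hu.2.1],
            hn]
    have hN18 : Nat.card N = 18 := (Nat.card_eq_of_bijective _ hb).trans h.card_points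
    have hn := hnine N hN (by rw [hN18]; norm_num)
    obtain ⟨Q⟩ : Nonempty (Sylow 3 N) := inferInstance
    have h136 : 136 ∣ 18 := by
      rw [← hn, ← hN18]
      exact Q.card_dvd_index.trans (Subgroup.index_dvd_card _)
    norm_num at h136

end CfsgLib.SylowEighteen
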