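import Mathlib.GroupTheory.Sylow
import Mathlib.GroupTheory.SpecificGroups.Cyclic
import Mathlib.RingTheory.IntegralDomain
import Mathlib.FieldTheory.Finite.Basic
import Mathlib.GroupTheory.Perm.Cycle.Type
import Mathlib.GroupTheory.GroupAction.Transitive
import Mathlib.Tactic.NormNum.Prime

/-!
# Groups on 18 points with an element of order 17 at each point

`Setup X Ω`: the 18 points each have an element of order 17 fixing that point only, whose cyclic
group is normal in the point stabiliser. This is the situation of a group acting on its eighteen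
Sylow 17-subgroups.
-/

set_option autoImplicit false
set_option linter.style.haveILetI false

namespace CfsgLib.SylowEighteen

open MulAction

local instance fact_seventeen : Fact (Nat.Prime 17) := ⟨by norm_num⟩

/-- Eighteen points, each the unique fixed point of an element of order 17 generating a normal
subgroup of the point stabiliser. -/
structure Setup (X Ω : Type*) [Group X] [MulAction X Ω] : Prop where
  card_points : Nat.card Ω = 18
  exists_rot : ∀ a : Ω, ∃ u : X, orderOf u = 17 ∧ u • a = a ∧ (∀ b, u • b = b → b = a) ∧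
    ∀ x : X, x • a = a → x * u * x⁻¹ ∈ Subgroup.zpowers u

/-- `u` is a rotation about `a`. -/
def IsRot {X Ω : Type*} [Group X] [MulAction X Ω] (u : X) (a : Ω) : Prop :=
  orderOf u = 17 ∧ u • a = a ∧ (∀ b, u • b = b → b = a) ∧
    ∀ x : X, x • a = a → x * u * x⁻¹ ∈ Subgroup.zpowers u

variable {X Ω : Type*} [Group X] [MulAction X Ω]

theorem Setup.finite (h : Setup X Ω) : Finite Ω :=
  Nat.finite_of_card_ne_zero (by rw [h.card_points]; norm_num)

theorem Setup.rot (h : Setup X Ω) (a : Ω) : ∃ u : X, IsRot u a := h.exists_rot a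

theorem IsRot.mem_zpowers {u : X} {a : Ω} (hu : IsRot u a) {v : X}
    (hv : v ∈ Subgroup.zpowers u) (hv1 : v ≠ 1) : u ∈ Subgroup.zpowers v := by
  have hle : Subgroup.zpowers v ≤ Subgroup.zpowers u := Subgroup.zpowers_le.2 hv
  have hc : Nat.card (Subgroup.zpowers u) = 17 := by rw [Nat.card_zpowers, hu.1]
  haveI : Finite (Subgroup.zpowers u) := Nat.finite_of_card_ne_zero (by rw [hc]; norm_num)
  have hd := Subgroup.card_dvd_of_le hle
  rw [hc] at hd
  rcases (Nat.dvd_prime (by norm_num : Nat.Prime 17)).1 hd with h1 | h1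
  · exact absurd (Subgroup.zpowers_eq_bot.1 (Subgroup.eq_bot_of_card_eq _ h1)) hv1
  · have := Subgroup.eq_of_le_of_card_ge hle (by rw [hc, h1])
    rw [this]
    exact Subgroup.mem_zpowers u

theorem smul_eq_of_mem_zpowers {v w : X} {b : Ω} (hw : w ∈ Subgroup.zpowers v) (h : v • b = b) :
    w • b = b :=
  mem_stabilizer_iff.1 ((Subgroup.zpowers_le.2 (mem_stabilizer_iff.2 h)) hw)

theorem IsRot.eq_one_of_fix {u : X} {a b : Ω} (hu : IsRot u a) {v : X}
    (hv : v ∈ Subgroup.zpowers u) (hb : b ≠ a) (hfix : v • b = b) : v = 1 := by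
  by_contra hv1
  exact hb (hu.2.2.1 b (smul_eq_of_mem_zpowers (hu.mem_zpowers hv hv1) hfix))

theorem IsRot.exists_pow (h : Setup X Ω) {u : X} {a b c : Ω} (hu : IsRot u a) (hb : b ≠ a)
    (hc : c ≠ a) : ∃ n : ℕ, u ^ n • b = c := by
  haveI := h.finite
  classical
  haveI := Fintype.ofFinite Ω
  let f : Fin 17 → {x : Ω // x ≠ a} := fun n => ⟨u ^ (n : ℕ) • b, fun e => hb (by
    have e2 : (u ^ (n : ℕ)) • b = (u ^ (n : ℕ)) • a := by
      rw [e, smul_eq_of_mem_zpowers (Subgroup.npow_mem_zpowers u _) hu.2.1]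
    exact smul_left_cancel _ e2)⟩
  have hf : Function.Injective f := by
    intro i j hij
    have hij' : u ^ (i : ℕ) • b = u ^ (j : ℕ) • b := congrArg Subtype.val hij
    have h1 : (u ^ (j : ℕ))⁻¹ * u ^ (i : ℕ) = 1 :=
      hu.eq_one_of_fix (mul_mem (inv_mem (Subgroup.npow_mem_zpowers u _))
        (Subgroup.npow_mem_zpowers u _)) hb (by rw [mul_smul, hij', inv_smul_smul])
    have h2 := pow_inj_mod.1 (inv_mul_eq_one.1 h1).symm
    rw [hu.1, Nat.mod_eq_of_lt i.2, Nat.mod_eq_of_lt j.2] at h2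
    exact Fin.ext h2
  have hb' : Function.Bijective f := by
    rw [Fintype.bijective_iff_injective_and_card]
    refine ⟨hf, ?_⟩
    rw [Fintype.card_fin, Fintype.card_subtype_compl, Fintype.card_subtype_eq,
      ← Nat.card_eq_fintype_card, h.card_points]
  obtain ⟨n, hn⟩ := hb'.2 ⟨c, hc⟩
  exact ⟨n, congrArg Subtype.val hn⟩

theorem Setup.exists_ne_pair (h : Setup X Ω) (a b : Ω) : ∃ c, c ≠ a ∧ c ≠ b := by
  haveI := h.finite
  classical
  haveI := Fintype.ofFinite Ω
  have hc : ({a, b} : Finset Ω).card < (Finset.univ : Finset Ω).card := by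
    rw [Finset.card_univ, ← Nat.card_eq_fintype_card, h.card_points]
    exact (Finset.card_insert_le _ _).trans_lt (by simp)
  obtain ⟨c, -, hc2⟩ := Finset.exists_mem_notMem_of_card_lt_card hc
  exact ⟨c, fun e => hc2 (by simp [e]), fun e => hc2 (by simp [e])⟩

theorem Setup.exists_smul (h : Setup X Ω) (a b : Ω) : ∃ g : X, g • a = b := by
  obtain ⟨c, hca, hcb⟩ := h.exists_ne_pair a b
  obtain ⟨u, hu⟩ := h.rot c
  obtain ⟨n, hn⟩ := hu.exists_pow h hca.symm hcb.symm
  exact ⟨u ^ n, hn⟩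

theorem Setup.exists_smul_pair (h : Setup X Ω) {a b a' b' : Ω} (hab : a ≠ b) (hab' : a' ≠ b') :
    ∃ g : X, g • a = a' ∧ g • b = b' := by
  obtain ⟨g, hg⟩ := h.exists_smul a a'
  obtain ⟨u, hu⟩ := h.rot a'
  have hgb : g • b ≠ a' := fun e => hab (smul_left_cancel g (hg.trans e.symm))
  obtain ⟨n, hn⟩ := hu.exists_pow h hgb hab'.symm
  exact ⟨u ^ n * g, by rw [mul_smul, hg, smul_eq_of_mem_zpowers (Subgroup.npow_mem_zpowers u _)
    hu.2.1], by rw [mul_smul, hn]⟩

theorem commute_of_conj {y v : X} {j : ℤ} (hy : orderOf y = 17) (hv : orderOf v = 17)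
    (hj : y * v * y⁻¹ = v ^ j) : Commute y v := by
  have hpow : ∀ m : ℕ, y ^ m * v * (y ^ m)⁻¹ = v ^ (j ^ m) := by
    intro m
    induction m with
    | zero => simp
    | succ m ih =>
      have h1 : y * (v ^ (j ^ m)) * y⁻¹ = v ^ (j * j ^ m) := by
        rw [← conj_zpow, hj, ← zpow_mul]
      rw [pow_succ' j m, ← h1, ← ih, pow_succ']
      group
  have h17 := hpow 17
  rw [← hy, pow_orderOf_eq_one, hy] at h17
  have hz : v ^ j = v ^ (1 : ℤ) := by
    have h1 : v ^ (1 : ℤ) = v ^ (j ^ 17) := by rw [← h17]; simp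
    rw [zpow_eq_zpow_iff_modEq, hv] at h1 ⊢
    rw [← ZMod.intCast_eq_intCast_iff] at h1 ⊢
    rw [h1, Int.cast_pow, ZMod.pow_card]
  show y * v = v * y
  rw [← mul_inv_eq_iff_eq_mul, hj, hz, zpow_one]

/-- The stabiliser of two points. -/
abbrev twoStab (X : Type*) {Ω : Type*} [Group X] [MulAction X Ω] (a b : Ω) : Subgroup X :=
  stabilizer X a ⊓ stabilizer X b

theorem mem_twoStab {a b : Ω} {x : X} : x ∈ twoStab X a b ↔ x • a = a ∧ x • b = b := Iff.rfl

variable [FaithfulSMul X Ω]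

theorem eq_of_commute (h : Setup X Ω) {u x : X} {a : Ω} (hu : IsRot u a) (hx : Commute x u) :
    x ∈ Subgroup.zpowers u := by
  have hxa : x • a = a := hu.2.2.1 _ (by rw [← mul_smul, ← hx.eq, mul_smul, hu.2.1])
  obtain ⟨b, hb, -⟩ := h.exists_ne_pair a a
  have hxb : x • b ≠ a := fun e => hb (smul_left_cancel x (e.trans hxa.symm))
  obtain ⟨n, hn⟩ := hu.exists_pow h hb hxb
  have hx2 : x = u ^ n := by
    refine FaithfulSMul.eq_of_smul_eq_smul (α := Ω) fun c => ?_
    by_cases hc : c = a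
    · rw [hc, hxa, smul_eq_of_mem_zpowers (Subgroup.npow_mem_zpowers u _) hu.2.1]
    · obtain ⟨k, hk⟩ := hu.exists_pow h hb hc
      rw [← hk, ← mul_smul, (hx.pow_right k).eq, mul_smul, ← hn, ← mul_smul, ← mul_smul,
        (Commute.pow_pow_self u k n).eq]
  rw [hx2]
  exact Subgroup.npow_mem_zpowers u n

theorem twoStab_commute (h : Setup X Ω) {u x : X} {a b : Ω} (hu : IsRot u a) (hb : b ≠ a)
    (hxb : x • b = b) (hx : Commute x u) : x = 1 :=
  hu.eq_one_of_fix (eq_of_commute h hu hx) hb hxb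

theorem fix_three (h : Setup X Ω) {x : X} {a b c : Ω} (hab : b ≠ a) (hca : c ≠ a) (hcb : c ≠ b)
    (ha : x • a = a) (hb : x • b = b) (hc : x • c = c) : x = 1 := by
  obtain ⟨u, hu⟩ := h.rot a
  obtain ⟨n, hn⟩ := hu.exists_pow h hab hca
  obtain ⟨k, hk⟩ := hu.2.2.2 x ha
  have hk' : x * u * x⁻¹ = u ^ k := hk.symm
  have hkn : x * u ^ n * x⁻¹ = u ^ (k * n) := by
    rw [← conj_pow, hk', ← zpow_natCast, ← zpow_mul]
  have h1 : u ^ (k * n) • b = u ^ n • b := by
    rw [← hkn, mul_smul, mul_smul, show x⁻¹ • b = b by rw [inv_smul_eq_iff, hb], hn, hc]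
  have h2 : u ^ (k * n - n) = 1 := by
    refine hu.eq_one_of_fix (Subgroup.zpow_mem_zpowers u _) hab ?_
    rw [show k * (n : ℤ) - n = -(n : ℤ) + k * n by ring, zpow_add, zpow_neg, zpow_natCast,
      mul_smul, h1, inv_smul_smul]
  have h3 : (17 : ℤ) ∣ (k - 1) * n := by
    have := orderOf_dvd_iff_zpow_eq_one.2 h2
    rw [hu.1] at this
    rw [sub_mul, one_mul]
    exact_mod_cast this
  have h4 : ¬ (17 : ℤ) ∣ n := by
    intro h17
    have : u ^ n = 1 := orderOf_dvd_iff_pow_eq_one.1 (by rw [hu.1]; exact_mod_cast h17)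
    rw [this, one_smul] at hn
    exact hcb hn.symm
  have h5 : (17 : ℤ) ∣ k - 1 :=
    (((Nat.prime_iff_prime_int.1 (by norm_num : Nat.Prime 17))).dvd_or_dvd h3).resolve_right h4
  have h6 : u ^ (k - 1) = 1 := orderOf_dvd_iff_zpow_eq_one.1 (by rw [hu.1]; exact_mod_cast h5)
  refine twoStab_commute h hu hab hb ?_
  have h7 : u ^ k = u := by
    rw [show k = k - 1 + 1 by ring, zpow_add, h6, one_mul, zpow_one]
  show x * u = u * x
  rw [← mul_inv_eq_iff_eq_mul, hk', h7]

theorem exists_char (h : Setup X Ω) {a b : Ω} (hab : b ≠ a) :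
    ∃ ψ : twoStab X a b →* (ZMod 17)ˣ, Function.Injective ψ := by
  obtain ⟨u, hu⟩ := h.rot a
  have hle : twoStab X a b ≤ Subgroup.normalizer ((Subgroup.zpowers u : Subgroup X) : Set X) := by
    intro x hx
    have hc : ∀ x : X, x • a = a → ∀ v ∈ Subgroup.zpowers u, x * v * x⁻¹ ∈ Subgroup.zpowers u := by
      intro x hx v hv
      obtain ⟨k, rfl⟩ := hv
      show x * u ^ k * x⁻¹ ∈ _
      rw [← conj_zpow]
      exact zpow_mem (hu.2.2.2 x hx) k
    refine Subgroup.mem_normalizer_iff.2 fun v => ⟨hc x hx.1 v, fun hv => ?_⟩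
    have := hc x⁻¹ (inv_mem (s := stabilizer X a) hx.1) _ hv
    simpa [mul_assoc] using this
  haveI : IsCyclic (Subgroup.zpowers u) := inferInstance
  have hc : Nat.card (Subgroup.zpowers u) = 17 := by rw [Nat.card_zpowers, hu.1]
  let e : MulAut (Subgroup.zpowers u) ≃* (ZMod 17)ˣ :=
    (IsCyclic.mulAutMulEquiv (Subgroup.zpowers u)).trans
      (Units.mapEquiv (ZMod.ringEquivCongr hc).toMulEquiv)
  refine ⟨e.toMonoidHom.comp ((Subgroup.zpowers u).normalizerMonoidHom.comp
    (Subgroup.inclusion hle)), (injective_iff_map_eq_one _).2 fun x hx => ?_⟩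
  have hx' : (Subgroup.zpowers u).normalizerMonoidHom (Subgroup.inclusion hle x) = 1 :=
    e.injective (hx.trans e.map_one.symm)
  have hcomm := congrArg (fun f : MulAut (Subgroup.zpowers u) =>
    ((f ⟨u, Subgroup.mem_zpowers u⟩ : Subgroup.zpowers u) : X)) hx'
  exact Subtype.ext (twoStab_commute h hu hab x.2.2 (mul_inv_eq_iff_eq_mul.1 (by simpa using hcomm)))

theorem card_twoStab_dvd (h : Setup X Ω) {a b : Ω} (hab : b ≠ a) :
    Nat.card (twoStab X a b) ∣ 16 := by
  obtain ⟨ψ, hψ⟩ := exists_char h hab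
  have := Subgroup.card_dvd_of_injective ψ hψ
  rwa [Nat.card_eq_fintype_card (α := (ZMod 17)ˣ), ZMod.card_units] at this

theorem involution_unique (h : Setup X Ω) {a b : Ω} (hab : b ≠ a) {s t : X}
    (hs : s ∈ twoStab X a b) (ht : t ∈ twoStab X a b) (hs2 : orderOf s = 2)
    (ht2 : orderOf t = 2) : s = t := by
  obtain ⟨ψ, hψ⟩ := exists_char h hab
  have key : ∀ (x : X) (hx : x ∈ twoStab X a b), orderOf x = 2 →
      ψ ⟨x, hx⟩ = -1 := by
    intro x hx hx2
    have ho : orderOf (ψ ⟨x, hx⟩) = 2 := by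
      rw [orderOf_injective ψ hψ, ← hx2]
      exact (Subgroup.orderOf_coe ⟨x, hx⟩).symm
    exact orderOf_eq_two_iff_units _ ho
  have hst := hψ ((key s hs hs2).trans (key t ht ht2).symm)
  exact congrArg Subtype.val hst
where
  orderOf_eq_two_iff_units (v : (ZMod 17)ˣ) (hv : orderOf v = 2) : v = -1 := by
    have h1 : v ^ 2 = 1 := by rw [← hv]; exact pow_orderOf_eq_one v
    have h2 : (v : ZMod 17) ^ 2 = 1 := by rw [← Units.val_pow_eq_pow_val, h1, Units.val_one]
    rcases sq_eq_one_iff.1 h2 with h3 | h3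
    · have : v = 1 := Units.ext h3
      rw [this, orderOf_one] at hv
      omega
    · exact Units.ext h3

theorem isCyclic_twoStab (h : Setup X Ω) {a b : Ω} (hab : b ≠ a) : IsCyclic (twoStab X a b) := by
  obtain ⟨ψ, hψ⟩ := exists_char h hab
  exact isCyclic_of_injective ψ hψ

theorem mem_rot_of_orderOf (h : Setup X Ω) [Finite X] {y : X} (hy : orderOf y = 17) :
    ∃ (a : Ω) (u : X), IsRot u a ∧ y ∈ Subgroup.zpowers u := by
  haveI := h.finite
  have hp : IsPGroup 17 (Subgroup.zpowers y) :=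
    IsPGroup.of_card (n := 1) (by rw [Nat.card_zpowers, hy, pow_one])
  obtain ⟨a, ha⟩ := hp.nonempty_fixed_point_of_prime_not_dvd_card Ω
    (by rw [h.card_points]; norm_num)
  have hya : y • a = a := ha ⟨y, Subgroup.mem_zpowers y⟩
  obtain ⟨u, hu⟩ := h.rot a
  obtain ⟨k, hk⟩ := hu.2.2.2 y hya
  exact ⟨a, u, hu, eq_of_commute h hu (commute_of_conj hy hu.1 hk.symm)⟩

omit [FaithfulSMul X Ω] in
theorem card_group (h : Setup X Ω) [Finite X] {a b : Ω} (hab : b ≠ a) :
    Nat.card X = 306 * Nat.card (twoStab X a b) := by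
  haveI := h.finite
  classical
  haveI := Fintype.ofFinite Ω
  have hstab : stabilizer X (a, b) = twoStab X a b := by
    ext x
    rw [mem_stabilizer_iff, mem_twoStab, Prod.smul_mk, Prod.mk.injEq]
  have horb : orbit X (a, b) = {p : Ω × Ω | p.1 ≠ p.2} := by
    ext ⟨c, d⟩
    constructor
    · rintro ⟨g, hg⟩ e
      have hg' : g • a = c ∧ g • b = d := Prod.mk.inj hg
      exact hab (smul_left_cancel g (hg'.2.trans ((show c = d from e).symm.trans hg'.1.symm)))
    · intro hcd
      obtain ⟨g, hg1, hg2⟩ := h.exists_smul_pair hab.symm (show c ≠ d from hcd)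
      exact ⟨g, Prod.ext hg1 hg2⟩
  have hcard : (orbit X (a, b)).ncard = 306 := by
    rw [horb, ← Nat.card_coe_set_eq, Nat.card_eq_fintype_card, Fintype.card_subtype]
    have : (Finset.univ.filter fun p : Ω × Ω => p.1 ≠ p.2) = (Finset.univ : Finset Ω).offDiag := by
      ext ⟨c, d⟩; simp
    rw [show (Finset.univ.filter fun x => x ∈ {p : Ω × Ω | p.1 ≠ p.2}) =
      (Finset.univ : Finset Ω).offDiag by ext ⟨c, d⟩; simp, Finset.offDiag_card, Finset.card_univ,
      ← Nat.card_eq_fintype_card, h.card_points]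
  rw [← hstab, ← hcard, ← index_stabilizer, mul_comm]
  exact (Subgroup.card_mul_index _).symm

omit [FaithfulSMul X Ω] in
/-- A subgroup containing every element of order 17 inherits the setup. -/
theorem Setup.of_subgroup (h : Setup X Ω) (H : Subgroup X)
    (hH : ∀ x : X, orderOf x = 17 → x ∈ H) : Setup H Ω := by
  refine ⟨h.card_points, fun a => ?_⟩
  obtain ⟨u, hu⟩ := h.rot a
  refine ⟨⟨u, hH u hu.1⟩, by rw [← Subgroup.orderOf_coe]; exact hu.1, hu.2.1,
    fun b hb => hu.2.2.1 b hb, fun x hx => ?_⟩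
  obtain ⟨k, hk⟩ := hu.2.2.2 (x : X) hx
  exact ⟨k, Subtype.ext hk⟩

end CfsgLib.SylowEighteen
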